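import Cfsg.Agent.FiTwentyTwoCover.Moves

set_option autoImplicit false

/-!
# Lifts of commuting and braiding involutions in central extensions
-/

namespace CfsgLib.FiTwentyTwoCover

variable {G : Type*} [Group G]

/-- The correction making a braid relation exact. -/
def fixBraid (x y : G) : G := y * (x * y * x * (y * x * y)⁻¹)

theorem braid_fixBraid {x y : G}
    (hw : ∀ g, x * y * x * (y * x * y)⁻¹ * g = g * (x * y * x * (y * x * y)⁻¹)) :
    x * fixBraid x y * x = fixBraid x y * x * fixBraid x y := by
  generalize hwdef : x * y * x * (y * x * y)⁻¹ = w at hw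
  have hxyx : x * y * x = w * (y * x * y) := by rw [← hwdef, inv_mul_cancel_right]
  have e1 : x * fixBraid x y * x = w * (x * y * x) := by
    rw [fixBraid, hwdef]
    calc x * (y * w) * x = x * y * (w * x) := by simp [mul_assoc]
      _ = x * y * x * w := by rw [hw, ← mul_assoc]
      _ = w * (x * y * x) := (hw _).symm
  have e2 : fixBraid x y * x * fixBraid x y = w * (w * (y * x * y)) := by
    rw [fixBraid, hwdef]
    calc y * w * x * (y * w) = y * (w * (x * y)) * w := by simp [mul_assoc]
      _ = y * ((x * y) * w) * w := by rw [hw]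
      _ = y * x * y * w * w := by simp [mul_assoc]
      _ = w * (y * x * y) * w := by rw [hw (y * x * y)]
      _ = w * (w * (y * x * y)) := by rw [mul_assoc, hw (y * x * y)]
  rw [e1, e2, hxyx]

/-- Squares of braiding elements agree. -/
theorem sq_eq_of_braid {x y : G} (hb : x * y * x = y * x * y)
    (hc : ∀ g, x * x * g = g * (x * x)) : y * y = x * x := by
  have hy : y = x * y * x * (x * y)⁻¹ := by
    rw [hb]; simp [mul_assoc]
  calc y * y = x * y * x * (x * y)⁻¹ * (x * y * x * (x * y)⁻¹) := by rw [← hy]
    _ = x * y * (x * x) * (x * y)⁻¹ := by simp [mul_assoc]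
    _ = x * x := by rw [← hc (x * y), mul_inv_cancel_right]

/-- The commutator values with two braiding elements agree. -/
theorem comm_value_eq {x y y' u v : G} (hu : ∀ g, u * g = g * u) (hv : ∀ g, v * g = g * v)
    (hxy : x * y = u * (y * x)) (hxy' : x * y' = v * (y' * x))
    (hb : y * y' * y = y' * y * y') : u = v := by
  have e : ∀ {p q a b : G}, (∀ g, a * g = g * a) → (∀ g, b * g = g * b) →
      x * p = a * (p * x) → x * q = b * (q * x) →
      x * (p * q * p) = a * b * a * (p * q * p * x) := by
    intro p q a b ha hb hp hq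
    calc x * (p * q * p) = x * p * q * p := by simp [mul_assoc]
      _ = a * p * (x * q) * p := by rw [hp]; simp [mul_assoc]
      _ = a * p * b * (q * (x * p)) := by rw [hq]; simp [mul_assoc]
      _ = a * b * p * (q * a) * (p * x) := by
          rw [mul_assoc a p b, ← hb p, hp]; simp [mul_assoc]
      _ = a * b * (p * a) * (q * p * x) := by rw [← ha q]; simp [mul_assoc]
      _ = _ := by rw [← ha p]; simp [mul_assoc]
  have h := e hu hv hxy hxy'
  rw [hb, e hv hu hxy' hxy] at h
  have h2 := mul_right_cancel h
  have h3 : u * v * v = u * v * u := by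
    calc u * v * v = v * u * v := by rw [hu v]
      _ = u * v * u := h2
  exact (mul_left_cancel h3).symm

/-- Commutation passes along a braid relation. -/
theorem comm_of_braid {x y y' u : G} (hxy : x * y = y * x) (hb : y * y' * y = y' * y * y')
    (hu : ∀ g, u * g = g * u) (hxy' : x * y' = u * (y' * x)) : x * y' = y' * x := by
  have h1 : x * (y * y' * y) = u * (y * y' * y * x) := by
    calc x * (y * y' * y) = y * (x * y') * y := by simp only [← mul_assoc, hxy]
      _ = y * u * (y' * (x * y)) := by rw [hxy']; simp [mul_assoc]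
      _ = u * y * (y' * (y * x)) := by rw [hu y, hxy]
      _ = _ := by simp [mul_assoc]
  have h2 : x * (y' * y * y') = u * (u * (y' * y * y' * x)) := by
    calc x * (y' * y * y') = (x * y') * (y * y') := by simp [mul_assoc]
      _ = u * y' * (x * y) * y' := by rw [hxy']; simp [mul_assoc]
      _ = u * y' * y * (x * y') := by rw [hxy]; simp [mul_assoc]
      _ = u * (y' * y) * u * (y' * x) := by rw [hxy']; simp [mul_assoc]
      _ = u * (u * (y' * y)) * (y' * x) := by rw [mul_assoc u, ← hu (y' * y)]
      _ = _ := by simp [mul_assoc]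
  rw [hb, h2] at h1
  have h3 : u = 1 := mul_right_cancel
    (show u * (y' * y * y' * x) = 1 * (y' * y * y' * x) by rw [one_mul]; exact mul_left_cancel h1)
  rw [hxy', h3, one_mul]

/-- A letterwise commutator value is multiplicative on words. -/
theorem comm_prodw {x u : G} (g : ℕ → G) (hu : ∀ a, u * a = a * u) :
    ∀ w : List ℕ, (∀ i ∈ w, x * g i = u * (g i * x)) →
      x * CfsgLib.CosetEnum.prodw g w = u ^ w.length * (CfsgLib.CosetEnum.prodw g w * x) := by
  intro w
  induction w with
  | nil => intro _; simp [CfsgLib.CosetEnum.prodw]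
  | cons i r ih =>
    intro h
    rw [CfsgLib.CosetEnum.prodw_cons, ← mul_assoc, h i List.mem_cons_self, List.length_cons,
      pow_succ']
    calc u * (g i * x) * CfsgLib.CosetEnum.prodw g r
        = u * (g i * (x * CfsgLib.CosetEnum.prodw g r)) := by simp [mul_assoc]
      _ = u * (g i * u ^ r.length * (CfsgLib.CosetEnum.prodw g r * x)) := by
          rw [ih fun j hj => h j (List.mem_cons_of_mem _ hj)]; simp [mul_assoc]
      _ = u * (u ^ r.length * g i * (CfsgLib.CosetEnum.prodw g r * x)) := by
          rw [show g i * u ^ r.length = u ^ r.length * g i from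
            ((Commute.pow_left (hu (g i)) r.length)).eq.symm]
      _ = _ := by simp [mul_assoc]

end CfsgLib.FiTwentyTwoCover
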