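import Cfsg.Agent.FiTwentyTwoCover.Quotient
import Cfsg.Agent.FiTwentyTwoCover.Lifts
import Cfsg.Agent.FiTwentyTwoCover.Certs
import Cfsg.Agent.CosetEnum.Fi22Order.Order
import Cfsg.Agent.CosetEnum.WordTest
import Cfsg.Prelude.Def_KGroupFacts

set_option autoImplicit false
set_option maxRecDepth 100000

/-!
# The multiplier of `Fi22` divides six

In a stem extension the lifts of the generators can be normalised so that they satisfy the Coxeter
relations and one E7 relation; the other E7 relator then squares to one and the spider relator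
cubes to one.
-/

namespace CfsgLib.FiTwentyTwoCover

open Cfsg.Spor CfsgLib.CosetEnum
open scoped commutatorElement

/-- The images of the generators. -/
abbrev gen (x : Fi22.Gen) : Fi22 := PresentedGroup.of x

theorem gen_sq (x : Fi22.Gen) : gen x * gen x = 1 := Fi22.setup.of_sq x

theorem gen_rel (x y : Fi22.Gen) : (gen x * gen y) ^ coxLabel Fi22.edges x y = 1 := by
  have h : (FreeGroup.of x * FreeGroup.of y) ^ coxLabel Fi22.edges x y ∈
      coxRelators Fi22.edges ∪ {r | r ∈ Fi22.extra} :=
    Or.inl ⟨x, by cases x <;> decide, y, by cases y <;> decide, rfl⟩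
  have := PresentedGroup.one_of_mem h
  simpa [map_pow, map_mul, PresentedGroup.of] using this

theorem gen_comm {x y : Fi22.Gen} (h : coxLabel Fi22.edges x y = 2) :
    gen x * gen y = gen y * gen x := by
  have := gen_rel x y
  rw [h, pow_two] at this
  rw [eq_inv_of_mul_eq_one_left this, mul_inv_rev,
    inv_eq_of_mul_eq_one_left (gen_sq x), inv_eq_of_mul_eq_one_left (gen_sq y)]

theorem gen_braid {x y : Fi22.Gen} (h : coxLabel Fi22.edges x y = 3) :
    gen x * gen y * gen x = gen y * gen x * gen y := by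
  have := gen_rel x y
  rw [h] at this
  have e : gen x * gen y * gen x * (gen y * gen x * gen y) = 1 := by
    simpa [pow_succ, mul_assoc] using this
  rw [eq_inv_of_mul_eq_one_left e]
  simp [mul_assoc, inv_eq_of_mul_eq_one_left (gen_sq x), inv_eq_of_mul_eq_one_left (gen_sq y)]

theorem gen_extra (r : FreeGroup Fi22.Gen) (h : r ∈ Fi22.extra) :
    FreeGroup.lift gen r = 1 := by
  have e : FreeGroup.lift gen = PresentedGroup.mk (coxRelators Fi22.edges ∪ {r | r ∈ Fi22.extra}) :=
    FreeGroup.ext_hom _ _ fun x => by simp [gen, PresentedGroup.of]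
  rw [e]
  exact PresentedGroup.one_of_mem (Or.inr h)

/-- The word `(cdefghi)^9`. -/
def centreWord : List ℕ := (List.replicate 9 [2, 3, 4, 5, 6, 7, 8]).flatten

theorem centreWord_same :
    allR (sameWord 3510 Fi22H.enum.tb centreWord []) 12 0 = true := by decide +kernel

theorem gen_centreWord : prodw (gen ∘ Fi22.en) centreWord = 1 := by
  obtain ⟨φ, e, hφ, -, -, hinj, -⟩ := Fi22.order_and_action
  exact prodw_eq_of_sameWord (S := Fi22.setup) hinj hφ centreWord []
    (show ∀ a ∈ centreWord, a < 9 by decide) (fun a ha => absurd ha List.not_mem_nil)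
    (show 3510 ≤ 2 ^ 12 by decide) centreWord_same

variable {Γ : Type} [Group Γ] (σ : Γ →* Fi22)

theorem map_prodw (l : Fi22.Gen → Γ) (hl : ∀ x, σ (l x) = gen x) (w : List ℕ) :
    σ (prodw (l ∘ Fi22.en) w) = prodw (gen ∘ Fi22.en) w := by
  simp [prodw, map_list_prod, Function.comp_def, hl]

set_option maxHeartbeats 2000000 in
/-- Lifts with exact relations up to one central square. -/
theorem exists_rels (hσ : Function.Surjective σ) (hc : σ.ker ≤ Subgroup.center Γ) :
    ∃ (l : Fi22.Gen → Γ) (s : Γ), (∀ x, σ (l x) = gen x) ∧ Rels l s := by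
  have hz : ∀ {z : Γ}, σ z = 1 → ∀ g, z * g = g * z := fun h g =>
    ((Subgroup.mem_center_iff.1 (hc (MonoidHom.mem_ker.2 h))) g).symm
  choose r hr using fun x => hσ (gen x)
  have hw : ∀ {x y : Γ} {X Y : Fi22.Gen}, σ x = gen X → σ y = gen Y →
      coxLabel Fi22.edges X Y = 3 → σ (x * y * x * (y * x * y)⁻¹) = 1 := by
    intro x y X Y hx hy h
    simp only [map_mul, map_inv, hx, hy]
    rw [gen_braid h, mul_inv_cancel]
  have hfix : ∀ {x y : Γ} {X Y : Fi22.Gen}, σ x = gen X → σ y = gen Y →
      coxLabel Fi22.edges X Y = 3 →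
      σ (fixBraid x y) = gen Y ∧ x * fixBraid x y * x = fixBraid x y * x * fixBraid x y := by
    intro x y X Y hx hy h
    refine ⟨?_, braid_fixBraid (hz (hw hx hy h))⟩
    rw [fixBraid, map_mul, hw hx hy h, mul_one, hy]
  obtain ⟨hC, bC⟩ := hfix (hr .d) (hr .c) (by decide)
  obtain ⟨hB, bB⟩ := hfix hC (hr .b) (by decide)
  obtain ⟨hA, bA⟩ := hfix hB (hr .a) (by decide)
  obtain ⟨hE, bE⟩ := hfix (hr .d) (hr .e) (by decide)
  obtain ⟨hF, bF⟩ := hfix hE (hr .f) (by decide)
  obtain ⟨hG, bG⟩ := hfix hF (hr .g) (by decide)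
  obtain ⟨hH, bH⟩ := hfix (hr .d) (hr .h) (by decide)
  obtain ⟨hI, bI⟩ := hfix hH (hr .i) (by decide)
  generalize fixBraid (r .d) (r .c) = C at *
  generalize fixBraid C (r .b) = B at *
  generalize fixBraid B (r .a) = A at *
  generalize fixBraid (r .d) (r .e) = E at *
  generalize fixBraid E (r .f) = F at *
  generalize fixBraid F (r .g) = G at *
  generalize fixBraid (r .d) (r .h) = H at *
  generalize fixBraid H (r .i) = I at *
  have hD := hr .d
  generalize r .d = D at *
  have hs : ∀ g, D * D * g = g * (D * D) := hz (by rw [map_mul, hD, gen_sq])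
  have sC := sq_eq_of_braid bC hs
  have sB := (sq_eq_of_braid bB (sC ▸ hs)).trans sC
  have sA := (sq_eq_of_braid bA (sB ▸ hs)).trans sB
  have sE := sq_eq_of_braid bE hs
  have sF := (sq_eq_of_braid bF (sE ▸ hs)).trans sE
  have sG := (sq_eq_of_braid bG (sF ▸ hs)).trans sF
  have sH := sq_eq_of_braid bH hs
  have sI := (sq_eq_of_braid bI (sH ▸ hs)).trans sH
  let l : Fi22.Gen → Γ := fun x =>
    match x with
    | .a => A | .b => B | .c => C | .d => D | .e => E | .f => F | .g => G | .h => H | .i => I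
  have hl : ∀ x, σ (l x) = gen x := fun x => by cases x <;> assumption
  have hsq : ∀ x, l x * l x = D * D := fun x => by cases x <;> first | rfl | assumption
  have bC : l .d * l .c * l .d = l .c * l .d * l .c := bC
  have bB : l .c * l .b * l .c = l .b * l .c * l .b := bB
  have bA : l .b * l .a * l .b = l .a * l .b * l .a := bA
  have bE : l .d * l .e * l .d = l .e * l .d * l .e := bE
  have bF : l .e * l .f * l .e = l .f * l .e * l .f := bF
  have bG : l .f * l .g * l .f = l .g * l .f * l .g := bG
  have bH : l .d * l .h * l .d = l .h * l .d * l .h := bH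
  have bI : l .h * l .i * l .h = l .i * l .h * l .i := bI
  clear_value l
  let u : Fi22.Gen → Fi22.Gen → Γ := fun x y => l x * l y * (l y * l x)⁻¹
  have hu : ∀ {x y}, coxLabel Fi22.edges x y = 2 → ∀ g, u x y * g = g * u x y := fun h =>
    hz (by simp only [u, map_mul, map_inv, hl]; rw [gen_comm h, mul_inv_cancel])
  have hxu : ∀ x y, l x * l y = u x y * (l y * l x) := fun x y => by
    simp only [u, inv_mul_cancel_right]
  clear_value u
  have step : ∀ {x y y'}, l x * l y = l y * l x → coxLabel Fi22.edges x y' = 2 →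
      l y * l y' * l y = l y' * l y * l y' → l x * l y' = l y' * l x := fun h h2 hb =>
    comm_of_braid h hb (hu h2) (hxu _ _)
  have hB2 : ∀ {x y}, coxLabel Fi22.edges x y = 2 → u x y ^ 2 = 1 := by
    intro x y h
    have e := hxu x y
    have e2 : l x * (l y * l y) = u x y * (u x y * (l y * l y * l x)) := by
      rw [← mul_assoc, e, mul_assoc (u x y), mul_assoc (l y), e, ← mul_assoc (l y) (u x y), ← hu h (l y)]
      simp [mul_assoc]
    rw [hsq y, ← hs (l x), ← mul_assoc (u x y)] at e2
    exact (pow_two _).trans (mul_right_cancel (e2.symm.trans (one_mul _).symm))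
  have ha : ∀ {y}, y ≠ .a → y ≠ .b → l .a * l y = l y * l .a := by
    have hcd : u .a .c = u .a .d ∧ u .a .d = u .a .e ∧ u .a .e = u .a .f ∧ u .a .f = u .a .g ∧
        u .a .d = u .a .h ∧ u .a .h = u .a .i := by
      have key : ∀ {y y'}, coxLabel Fi22.edges .a y = 2 → coxLabel Fi22.edges .a y' = 2 →
          l y * l y' * l y = l y' * l y * l y' → u .a y = u .a y' := by
        intro y y' h h' hb
        exact comm_value_eq (x := l .a) (hu h) (hu h') (hxu .a y) (hxu .a y') hb
      exact ⟨key (y := .c) (y' := .d) (by decide) (by decide) bC.symm,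
        key (y := .d) (y' := .e) (by decide) (by decide) bE,
        key (y := .e) (y' := .f) (by decide) (by decide) bF,
        key (y := .f) (y' := .g) (by decide) (by decide) bG,
        key (y := .d) (y' := .h) (by decide) (by decide) bH,
        key (y := .h) (y' := .i) (by decide) (by decide) bI⟩
    obtain ⟨e1, e2, e3, e4, e5, e6⟩ := hcd
    have qd : u .a .d = u .a .c := e1.symm
    have qe : u .a .e = u .a .c := e2.symm.trans qd
    have qf : u .a .f = u .a .c := e3.symm.trans qe
    have qg : u .a .g = u .a .c := e4.symm.trans qf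
    have qh : u .a .h = u .a .c := e5.symm.trans qd
    have qi : u .a .i = u .a .c := e6.symm.trans qh
    have hall : ∀ i ∈ centreWord, l .a * (l ∘ Fi22.en) i = u .a .c * ((l ∘ Fi22.en) i * l .a) := by
      have hi : ∀ i ∈ centreWord, i ∈ [2, 3, 4, 5, 6, 7, 8] := by decide
      intro i h
      rw [Function.comp_apply, hxu]
      have := hi i h
      simp only [List.mem_cons, List.not_mem_nil, or_false] at this
      rcases this with rfl | rfl | rfl | rfl | rfl | rfl | rfl <;>
        simp only [Fi22.en, qd, qe, qf, qg, qh, qi]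
    have h63 := comm_prodw (l ∘ Fi22.en) (hu (by decide)) centreWord hall
    have hP := hz ((map_prodw σ l hl centreWord).trans gen_centreWord) (l .a)
    rw [hP] at h63
    have h63' : u .a .c ^ 63 = 1 :=
      mul_right_cancel (b := l .a * prodw (l ∘ Fi22.en) centreWord)
        ((show centreWord.length = 63 by decide) ▸ h63.symm.trans (one_mul _).symm)
    have h1 : u .a .c = 1 := by
      have := h63'
      rw [show 63 = 2 * 31 + 1 from rfl, pow_succ, pow_mul, hB2 (by decide), one_pow, one_mul]
        at this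
      exact this
    intro y hya hyb
    rw [hxu]
    suffices u .a y = 1 by rw [this, one_mul]
    cases y <;>
      first
        | exact absurd rfl hya
        | exact absurd rfl hyb
        | simp only [qd, qe, qf, qg, qh, qi, h1]
  have ac := ha (y := .c) (by decide) (by decide)
  have ad := ha (y := .d) (by decide) (by decide)
  have ae := ha (y := .e) (by decide) (by decide)
  have af := ha (y := .f) (by decide) (by decide)
  have ag := ha (y := .g) (by decide) (by decide)
  have ah := ha (y := .h) (by decide) (by decide)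
  have ai := ha (y := .i) (by decide) (by decide)
  have db : l .d * l .b = l .b * l .d := step ad.symm (by decide) bA.symm
  have eb : l .e * l .b = l .b * l .e := step ae.symm (by decide) bA.symm
  have fb : l .f * l .b = l .b * l .f := step af.symm (by decide) bA.symm
  have gb : l .g * l .b = l .b * l .g := step ag.symm (by decide) bA.symm
  have hb : l .h * l .b = l .b * l .h := step ah.symm (by decide) bA.symm
  have ib : l .i * l .b = l .b * l .i := step ai.symm (by decide) bA.symm
  have ec : l .e * l .c = l .c * l .e := step eb (by decide) bB.symm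
  have fc : l .f * l .c = l .c * l .f := step fb (by decide) bB.symm
  have gc : l .g * l .c = l .c * l .g := step gb (by decide) bB.symm
  have hc' : l .h * l .c = l .c * l .h := step hb (by decide) bB.symm
  have ic : l .i * l .c = l .c * l .i := step ib (by decide) bB.symm
  have fd : l .f * l .d = l .d * l .f := step fc (by decide) bC.symm
  have gd : l .g * l .d = l .d * l .g := step gc (by decide) bC.symm
  have id' : l .i * l .d = l .d * l .i := step ic (by decide) bC.symm
  have ge : l .g * l .e = l .e * l .g := step gd (by decide) bE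
  have ie : l .i * l .e = l .e * l .i := step id' (by decide) bE
  have fh : l .f * l .h = l .h * l .f := step fd (by decide) bH
  have he : l .h * l .e = l .e * l .h := step fh.symm (by decide) bF.symm
  have if' : l .i * l .f = l .f * l .i := step ie (by decide) bF
  have hg : l .h * l .g = l .g * l .h := step fh.symm (by decide) bG
  have ig : l .i * l .g = l .g * l .i := step if' (by decide) bG
  refine ⟨l, D * D, hl, hsq, fun x => hs _, ?_, ?_⟩
  · intro x y h
    cases x <;> cases y <;> first
      | exact absurd h (by decide)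
      | assumption
      | exact Eq.symm ‹_›
  · intro x y h
    cases x <;> cases y <;> first
      | exact absurd h (by decide)
      | assumption
      | exact Eq.symm ‹_›

theorem prodw_mul_central (l : Fi22.Gen → Γ) (m : Γ) (hm : ∀ g, m * g = g * m) (w : List ℕ) :
    prodw ((fun x => l x * m) ∘ Fi22.en) w = prodw (l ∘ Fi22.en) w * m ^ w.length := by
  induction w with
  | nil => simp [prodw]
  | cons x r ih =>
    rw [prodw_cons, prodw_cons, ih, List.length_cons, pow_succ']
    simp only [Function.comp_apply]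
    rw [mul_assoc (l (Fi22.en x)) m, ← mul_assoc m, hm]
    simp [mul_assoc]

/-- The kernel of a stem extension of `Fi22` is a cyclic group of order dividing six. -/
theorem stem_bound (hσ : Cfsg.IsStemExtension σ) :
    ∃ W : Γ, W ^ 6 = 1 ∧ σ.ker = Subgroup.zpowers W := by
  obtain ⟨hsurj, hc, hcomm⟩ := hσ
  obtain ⟨l, s, hl, R⟩ := exists_rels σ hsurj hc
  have hz : ∀ {z : Γ}, σ z = 1 → ∀ g, z * g = g * z := fun h g =>
    ((Subgroup.mem_center_iff.1 (hc (MonoidHom.mem_ker.2 h))) g).symm
  have hext := gen_extra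
  have hgex : Fi22.exW.map (prodw (gen ∘ Fi22.en)) = [1, 1, 1] := by
    rw [← Fi22.exW_eq Fi22 gen gen_sq]
    simp only [Fi22.extra, List.map_cons, List.map_nil]
    rw [hext _ (by simp [Fi22.extra]), hext _ (by simp [Fi22.extra]), hext _ (by simp [Fi22.extra])]
  rw [exW_eq_replicate] at hgex
  simp only [List.map_cons, List.map_nil, List.cons.injEq, and_true] at hgex
  obtain ⟨g1, g2, g3⟩ := hgex
  have hs : σ s = 1 := by rw [← R.sq .a, map_mul, hl, gen_sq]
  -- the first E7 value
  have hAsq := reduces_sound R reduces_a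
  rw [prodw_replicate] at hAsq
  generalize hP : prodw (l ∘ Fi22.en) [0, 1, 2, 3, 4, 5, 7] = P at hAsq
  have hP9 : σ (P ^ 9) = 1 := by
    rw [← hP, map_pow, map_prodw σ l hl, ← prodw_replicate]; exact g2
  let m : Γ := s ^ 31 * (P ^ 9)⁻¹
  have hm : σ m = 1 := by
    show σ (s ^ 31 * (P ^ 9)⁻¹) = 1
    rw [map_mul, map_inv, map_pow, hs, hP9]; simp
  have hmz := hz hm
  have hm2 : m * m * s = 1 := by
    have e : (P ^ 9)⁻¹ * (P ^ 9)⁻¹ = (s ^ 63)⁻¹ := by
      rw [← mul_inv_rev, ← pow_add]; exact congrArg _ hAsq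
    calc m * m * s = s ^ 31 * (m * (P ^ 9)⁻¹) * s := by
          show s ^ 31 * (P ^ 9)⁻¹ * m * s = _
          rw [mul_assoc (s ^ 31), ← hmz]
      _ = s ^ 31 * (s ^ 31 * ((P ^ 9)⁻¹ * (P ^ 9)⁻¹)) * s := by
          show s ^ 31 * (s ^ 31 * (P ^ 9)⁻¹ * (P ^ 9)⁻¹) * s = _
          rw [mul_assoc (s ^ 31) (P ^ 9)⁻¹]
      _ = 1 := by
          rw [e, show s ^ 63 = s * s ^ 31 * s ^ 31 by rw [← pow_succ', ← pow_add]]
          simp [mul_assoc]
  have hmdef : m = s ^ 31 * (P ^ 9)⁻¹ := rfl
  clear_value m
  let f : Fi22.Gen → Γ := fun x => l x * m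
  have hfσ : ∀ x, σ (f x) = gen x := fun x => by
    show σ (l x * m) = gen x
    rw [map_mul, hm, mul_one, hl]
  have hff : ∀ p q : Fi22.Gen, f p * f q = l p * l q * (m * m) := fun p q => by
    show l p * m * (l q * m) = _
    rw [mul_assoc (l p), ← mul_assoc m, hmz, mul_assoc, mul_assoc]
  have Rf : Rels f 1 := by
    refine ⟨fun x => ?_, fun x => by simp, fun x y h => ?_, fun x y h => ?_⟩
    · rw [hff, R.sq, ← hz hs (m * m)] at *
      rw [← hm2, hz hs (m * m)]
    · have e : ∀ p q : Fi22.Gen, f p * f q * f p = l p * l q * l p * (m * m * m) := fun p q => by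
        rw [hff]
        show l p * l q * (m * m) * (l p * m) = _
        rw [mul_assoc (l p * l q), ← mul_assoc (m * m), mul_assoc m m (l p), hmz (l p),
          ← mul_assoc m, hmz (l p)]
        simp [mul_assoc]
      rw [e, e, R.braid x y h]
    · rw [hff, hff, R.comm x y h]
  have hz2 : prodw (f ∘ Fi22.en) (List.replicate 9 [0, 1, 2, 3, 4, 5, 7]).flatten = 1 := by
    rw [prodw_mul_central l m hmz, prodw_replicate, hP]
    show P ^ 9 * m ^ 63 = 1
    have hinv : s ^ 31 = (m * m)⁻¹ ^ 31 := by rw [inv_eq_of_mul_eq_one_right hm2]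
    have hm63 : m ^ 63 = (m * m) ^ 31 * m := by rw [← pow_two, ← pow_mul, ← pow_succ]
    calc P ^ 9 * m ^ 63 = P ^ 9 * ((m * m) ^ 31 * m) := by rw [hm63]
      _ = P ^ 9 * ((m * m) ^ 31 * (s ^ 31 * (P ^ 9)⁻¹)) := by rw [← hmdef]
      _ = 1 := by rw [hinv, inv_pow, mul_inv_cancel_left, mul_inv_cancel]
  -- the other two values
  generalize hQ : prodw (f ∘ Fi22.en) (List.replicate 9 [1, 2, 3, 4, 5, 6, 7]).flatten = z3 at *
  generalize hT : prodw (f ∘ Fi22.en) (List.replicate 10 spider).flatten = z1 at *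
  have hz3σ : σ z3 = 1 := by rw [← hQ, map_prodw σ f hfσ]; exact g3
  have hz1σ : σ z1 = 1 := by rw [← hT, map_prodw σ f hfσ]; exact g1
  have hz3 : z3 ^ 2 = 1 := by
    have := reduces_sound Rf reduces_b
    rw [prodw_replicate, one_pow] at this
    rw [← hQ, prodw_replicate, ← pow_mul]
    exact this
  have hz1 : z1 ^ 3 = 1 := by
    have h := reduces_sound Rf reduces_s
    simp only [prodw_append, hT, one_pow] at h
    have hg : prodw (f ∘ Fi22.en) conjG * prodw (f ∘ Fi22.en) conjG.reverse = 1 := by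
      rw [← prodw_append, reduces_sound Rf reduces_g, one_pow]
    have hh : prodw (f ∘ Fi22.en) conjH * prodw (f ∘ Fi22.en) conjH.reverse = 1 := by
      rw [← prodw_append, reduces_sound Rf reduces_h, one_pow]
    generalize prodw (f ∘ Fi22.en) conjG = a at *
    generalize prodw (f ∘ Fi22.en) conjG.reverse = a' at *
    generalize prodw (f ∘ Fi22.en) conjH = b at *
    generalize prodw (f ∘ Fi22.en) conjH.reverse = b' at *
    have c := hz hz1σ
    rw [← h]
    calc z1 ^ 3 = z1 * (z1 * (a * a')) * (z1 * (b * b')) := by rw [hg, hh]; simp [pow_succ]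
      _ = z1 * (a * z1 * a') * (b * z1 * b') := by
          rw [← mul_assoc z1 a, c a, ← mul_assoc z1 b, c b]
      _ = z1 * a * z1 * a' * b * z1 * b' := by simp [mul_assoc]
  -- assemble
  have hWz : σ (z1 * z3) = 1 := by rw [map_mul, hz1σ, hz3σ, one_mul]
  have hc13 : Commute z1 z3 := hz hz1σ z3
  have hW6 : (z1 * z3) ^ 6 = 1 := by
    rw [hc13.mul_pow, show z1 ^ 6 = (z1 ^ 3) ^ 2 by rw [← pow_mul],
      show z3 ^ 6 = (z3 ^ 2) ^ 3 by rw [← pow_mul], hz1, hz3]
    simp
  have hW4 : (z1 * z3) ^ 4 = z1 := by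
    rw [hc13.mul_pow, show z1 ^ 4 = z1 ^ 3 * z1 by rw [← pow_succ],
      show z3 ^ 4 = (z3 ^ 2) ^ 2 by rw [← pow_mul], hz1, hz3]
    simp
  have hW3 : (z1 * z3) ^ 3 = z3 := by
    rw [hc13.mul_pow, show z3 ^ 3 = z3 ^ 2 * z3 by rw [← pow_succ], hz1, hz3]
    simp
  refine ⟨z1 * z3, hW6, le_antisymm ?_ ((Subgroup.zpowers_le).2 (MonoidHom.mem_ker.2 hWz))⟩
  -- the lifts generate
  let S : Subgroup Γ := Subgroup.closure (Set.range f)
  have hdec : ∀ g : Γ, ∃ h ∈ S, σ g = σ h := by
    intro g
    have hg : σ g ∈ S.map σ := by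
      have htop : S.map σ = ⊤ := by
        rw [eq_top_iff, ← PresentedGroup.closure_range_of, MonoidHom.map_closure, Subgroup.closure_le]
        rintro _ ⟨x, rfl⟩
        exact Subgroup.subset_closure ⟨f x, ⟨x, rfl⟩, hfσ x⟩
      rw [htop]; exact Subgroup.mem_top _
    obtain ⟨h, hh, e⟩ := hg
    exact ⟨h, hh, e.symm⟩
  have hderiv : commutator Γ ≤ S := by
    rw [commutator_eq_closure, Subgroup.closure_le]
    rintro _ ⟨p, q, rfl⟩
    obtain ⟨p', hp', ep⟩ := hdec p
    obtain ⟨q', hq', eq'⟩ := hdec q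
    have hp2 : σ (p * p'⁻¹) = 1 := by rw [map_mul, map_inv, ep, mul_inv_cancel]
    have hq2 : σ (q * q'⁻¹) = 1 := by rw [map_mul, map_inv, eq', mul_inv_cancel]
    have e : ⁅p, q⁆ = ⁅p', q'⁆ := by
      have c1 := hz hp2
      have c2 := hz hq2
      rw [show p = p * p'⁻¹ * p' by simp, show q = q * q'⁻¹ * q' by simp]
      generalize p * p'⁻¹ = a at *
      generalize q * q'⁻¹ = b at *
      rw [commutatorElement_def, commutatorElement_def, mul_inv_rev, mul_inv_rev]
      calc a * p' * (b * q') * (p'⁻¹ * a⁻¹) * (q'⁻¹ * b⁻¹)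
          = a * ((p' * b) * (q' * p'⁻¹)) * a⁻¹ * (q'⁻¹ * b⁻¹) := by simp [mul_assoc]
        _ = (p' * b) * (q' * p'⁻¹) * (q'⁻¹ * b⁻¹) := by rw [c1, mul_inv_cancel_right]
        _ = b * (p' * q' * p'⁻¹ * q'⁻¹) * b⁻¹ := by rw [← c2 p']; simp [mul_assoc]
        _ = _ := by rw [c2, mul_inv_cancel_right]
    rw [e]
    exact S.mul_mem (S.mul_mem (S.mul_mem hp' hq') (S.inv_mem hp')) (S.inv_mem hq')
  let N : Subgroup S := (Subgroup.zpowers (z1 * z3)).subgroupOf S
  have hkerS : (σ.comp S.subtype).ker ≤ N := by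
    have hfS : ∀ x, f x ∈ S := fun x => Subgroup.subset_closure ⟨x, rfl⟩
    refine ker_le_of_rels (σ.comp S.subtype) (fun x => ⟨f x, hfS x⟩) N ?_ ?_ ?_ hfσ ?_
    · exact ⟨fun x => Subtype.ext (Rf.sq x), fun x => by simp,
        fun x y h => Subtype.ext (Rf.braid x y h), fun x y h => Subtype.ext (Rf.comm x y h)⟩
    · intro n hn g
      obtain ⟨k, hk⟩ := Subgroup.mem_zpowers_iff.1 (Subgroup.mem_subgroupOf.1 hn)
      refine Subtype.ext (hz ?_ _).symm
      rw [← hk, map_zpow, hWz, one_zpow]
    · intro r hr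
      have he : ∀ r, ((FreeGroup.lift (fun x => (⟨f x, hfS x⟩ : S)) r : S) : Γ) = FreeGroup.lift f r := by
        intro r
        have : S.subtype.comp (FreeGroup.lift (fun x => (⟨f x, hfS x⟩ : S))) = FreeGroup.lift f :=
          FreeGroup.ext_hom _ _ fun x => by simp
        exact DFunLike.congr_fun this r
      rw [Subgroup.mem_subgroupOf, he]
      have hm' : FreeGroup.lift f r ∈ Fi22.extra.map (FreeGroup.lift f) := List.mem_map_of_mem hr
      rw [lift_extra (fun a => Rf.sq a), exW_eq_replicate] at hm'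
      simp only [List.map_cons, List.map_nil, List.mem_cons, List.not_mem_nil, or_false] at hm'
      rcases hm' with e | e | e <;> rw [e]
      · exact ⟨4, ((zpow_natCast _ 4).trans hW4).trans hT.symm⟩
      · rw [hz2]; exact one_mem _
      · exact ⟨3, ((zpow_natCast _ 3).trans hW3).trans hQ.symm⟩
    · rw [eq_top_iff]
      rintro ⟨g, hg⟩ -
      induction hg using Subgroup.closure_induction with
      | mem g hg => obtain ⟨x, rfl⟩ := hg; exact Subgroup.subset_closure ⟨x, rfl⟩
      | one => exact one_mem _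
      | mul a b _ _ ha hb => exact Subgroup.mul_mem _ ha hb
      | inv a _ ha => exact Subgroup.inv_mem _ ha
  intro z hzk
  exact Subgroup.mem_subgroupOf.1 (hkerS (x := ⟨z, hderiv (hcomm hzk)⟩) (MonoidHom.mem_ker.1 hzk))

end CfsgLib.FiTwentyTwoCover
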