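import Cfsg.Agent.FiTwentyTwoCover.CoverData
import Cfsg.Agent.CosetEnum.Engine

set_option autoImplicit false

/-! Kernel-friendly definitions of the checks for the double cover of `Fi22`. -/

namespace CfsgLib.FiTwentyTwoCover

open CfsgLib.CosetEnum

/-- The pairs of joined letters. -/
def pairs3 : List (ℕ × ℕ) :=
  [(0, 1), (1, 2), (2, 3), (3, 4), (3, 7), (4, 5), (5, 6), (7, 8)]

/-- The pairs of distinct letters which are not joined. -/
def pairs2 : List (ℕ × ℕ) :=
  [(0, 2), (0, 3), (0, 4), (0, 5), (0, 6), (0, 7), (0, 8), (1, 3), (1, 4), (1, 5), (1, 6), (1, 7),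
    (1, 8), (2, 4), (2, 5), (2, 6), (2, 7), (2, 8), (3, 5), (3, 6), (3, 8), (4, 6), (4, 7), (4, 8),
    (5, 7), (5, 8), (6, 7), (6, 8)]

/-- The action of a word, the last letter acting first. -/
noncomputable def actW (a : ℕ → ℕ → ℕ) (w : List ℕ) (p : ℕ) : ℕ :=
  List.rec (motive := fun _ => ℕ) p (fun x _ ih => force ih (a x)) w

theorem actW_nil (a : ℕ → ℕ → ℕ) (p : ℕ) : actW a [] p = p := rfl

theorem actW_cons (a : ℕ → ℕ → ℕ) (x : ℕ) (w : List ℕ) (p : ℕ) :
    actW a (x :: w) p = a x (actW a w p) :=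
  force_eq _ _

/-- The entry of a letter at a point pair. -/
noncomputable def entTwo (x i : ℕ) : ℕ :=
  Nat.land (Nat.shiftRight (vtc x (Nat.shiftRight i 7)) (Nat.mul 15 (Nat.land i 127))) 32767

/-- The permutation of a letter on 28160 points. -/
noncomputable def nxt (x p : ℕ) : ℕ := Nat.xor (entTwo x (Nat.shiftRight p 1)) (Nat.land p 1)

/-- The checks at a point of the double cover. -/
noncomputable def chkTwo (i : ℕ) : Bool :=
  bif Nat.blt i 14080 then
    (List.range 9).all (fun x => Nat.blt (nxt x (2 * i)) 28160 &&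
      Nat.beq (nxt x (nxt x (2 * i))) (2 * i)) &&
    pairs3.all (fun q => Nat.beq (actW nxt [q.1, q.2, q.1] (2 * i)) (actW nxt [q.2, q.1, q.2] (2 * i))) &&
    pairs2.all (fun q => Nat.beq (actW nxt [q.1, q.2] (2 * i)) (actW nxt [q.2, q.1] (2 * i)))
  else true

/-- The first long relator at a point. -/
noncomputable def chkTwoS (i : ℕ) : Bool :=
  bif Nat.blt i 14080 then
    Nat.beq (actW nxt (List.replicate 10 [3, 2, 1, 3, 4, 5, 3, 7, 8]).flatten (2 * i)) (2 * i)
  else true

/-- The second long relator at a point. -/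
noncomputable def chkTwoA (i : ℕ) : Bool :=
  bif Nat.blt i 14080 then
    Nat.beq (actW nxt (List.replicate 9 [0, 1, 2, 3, 4, 5, 7]).flatten (2 * i)) (2 * i + 1)
  else true

/-- The third long relator at a point. -/
noncomputable def chkTwoB (i : ℕ) : Bool :=
  bif Nat.blt i 14080 then
    Nat.beq (actW nxt (List.replicate 9 [1, 2, 3, 4, 5, 6, 7]).flatten (2 * i)) (2 * i)
  else true

end CfsgLib.FiTwentyTwoCover
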