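import Cfsg.Agent.FiTwentyTwoCover.CheckDefs

set_option autoImplicit false
set_option maxRecDepth 100000
set_option Elab.async false

/-! Kernel checks for the double cover of `Fi22`. -/

namespace CfsgLib.FiTwentyTwoCover

open CfsgLib.CosetEnum

theorem two_0 : allR chkTwo 10 0 = true := by decide +kernel

theorem two_1 : allR chkTwo 10 1024 = true := by decide +kernel

theorem two_2 : allR chkTwo 10 2048 = true := by decide +kernel

theorem two_3 : allR chkTwo 10 3072 = true := by decide +kernel

theorem two_4 : allR chkTwo 10 4096 = true := by decide +kernel

theorem two_5 : allR chkTwo 10 5120 = true := by decide +kernel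

theorem two_6 : allR chkTwo 10 6144 = true := by decide +kernel

theorem two_7 : allR chkTwo 10 7168 = true := by decide +kernel

theorem two_8 : allR chkTwo 10 8192 = true := by decide +kernel

theorem two_9 : allR chkTwo 10 9216 = true := by decide +kernel

theorem two_10 : allR chkTwo 10 10240 = true := by decide +kernel

theorem two_11 : allR chkTwo 10 11264 = true := by decide +kernel

theorem two_12 : allR chkTwo 10 12288 = true := by decide +kernel

theorem two_13 : allR chkTwo 10 13312 = true := by decide +kernel

theorem two_all : ∀ k < 14, allR chkTwo 10 (1024 * k) = true := by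
  intro k hk
  interval_cases k
  exacts [two_0, two_1, two_2, two_3, two_4, two_5, two_6, two_7, two_8, two_9, two_10, two_11, two_12, two_13]

end CfsgLib.FiTwentyTwoCover
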