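import Cfsg.Agent.FiTwentyTwoCover.CheckDefs

set_option autoImplicit false
set_option maxRecDepth 100000
set_option Elab.async false

/-! Kernel checks for the double cover of `Fi22`. -/

namespace CfsgLib.FiTwentyTwoCover

open CfsgLib.CosetEnum

theorem twoA_0 : allR chkTwoA 10 0 = true := by decide +kernel

theorem twoA_1 : allR chkTwoA 10 1024 = true := by decide +kernel

theorem twoA_2 : allR chkTwoA 10 2048 = true := by decide +kernel

theorem twoA_3 : allR chkTwoA 10 3072 = true := by decide +kernel

theorem twoA_4 : allR chkTwoA 10 4096 = true := by decide +kernel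

theorem twoA_5 : allR chkTwoA 10 5120 = true := by decide +kernel

theorem twoA_6 : allR chkTwoA 10 6144 = true := by decide +kernel

theorem twoA_7 : allR chkTwoA 10 7168 = true := by decide +kernel

theorem twoA_8 : allR chkTwoA 10 8192 = true := by decide +kernel

theorem twoA_9 : allR chkTwoA 10 9216 = true := by decide +kernel

theorem twoA_10 : allR chkTwoA 10 10240 = true := by decide +kernel

theorem twoA_11 : allR chkTwoA 10 11264 = true := by decide +kernel

theorem twoA_12 : allR chkTwoA 10 12288 = true := by decide +kernel

theorem twoA_13 : allR chkTwoA 10 13312 = true := by decide +kernel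

theorem twoA_all : ∀ k < 14, allR chkTwoA 10 (1024 * k) = true := by
  intro k hk
  interval_cases k
  exacts [twoA_0, twoA_1, twoA_2, twoA_3, twoA_4, twoA_5, twoA_6, twoA_7, twoA_8, twoA_9, twoA_10, twoA_11, twoA_12, twoA_13]

end CfsgLib.FiTwentyTwoCover
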