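import Cfsg.Agent.FiTwentyTwoCover.CheckDefs

set_option autoImplicit false
set_option maxRecDepth 100000
set_option Elab.async false

/-! Kernel checks for the double cover of `Fi22`. -/

namespace CfsgLib.FiTwentyTwoCover

open CfsgLib.CosetEnum

theorem twoB_0 : allR chkTwoB 10 0 = true := by decide +kernel

theorem twoB_1 : allR chkTwoB 10 1024 = true := by decide +kernel

theorem twoB_2 : allR chkTwoB 10 2048 = true := by decide +kernel

theorem twoB_3 : allR chkTwoB 10 3072 = true := by decide +kernel

theorem twoB_4 : allR chkTwoB 10 4096 = true := by decide +kernel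

theorem twoB_5 : allR chkTwoB 10 5120 = true := by decide +kernel

theorem twoB_6 : allR chkTwoB 10 6144 = true := by decide +kernel

theorem twoB_7 : allR chkTwoB 10 7168 = true := by decide +kernel

theorem twoB_8 : allR chkTwoB 10 8192 = true := by decide +kernel

theorem twoB_9 : allR chkTwoB 10 9216 = true := by decide +kernel

theorem twoB_10 : allR chkTwoB 10 10240 = true := by decide +kernel

theorem twoB_11 : allR chkTwoB 10 11264 = true := by decide +kernel

theorem twoB_12 : allR chkTwoB 10 12288 = true := by decide +kernel

theorem twoB_13 : allR chkTwoB 10 13312 = true := by decide +kernel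

theorem twoB_all : ∀ k < 14, allR chkTwoB 10 (1024 * k) = true := by
  intro k hk
  interval_cases k
  exacts [twoB_0, twoB_1, twoB_2, twoB_3, twoB_4, twoB_5, twoB_6, twoB_7, twoB_8, twoB_9, twoB_10, twoB_11, twoB_12, twoB_13]

end CfsgLib.FiTwentyTwoCover
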