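import Cfsg.Agent.FiTwentyTwoCover.CheckDefs

set_option autoImplicit false
set_option maxRecDepth 100000
set_option Elab.async false

/-! Kernel checks for the double cover of `Fi22`. -/

namespace CfsgLib.FiTwentyTwoCover

open CfsgLib.CosetEnum

theorem twoS_0 : allR chkTwoS 10 0 = true := by decide +kernel

theorem twoS_1 : allR chkTwoS 10 1024 = true := by decide +kernel

theorem twoS_2 : allR chkTwoS 10 2048 = true := by decide +kernel

theorem twoS_3 : allR chkTwoS 10 3072 = true := by decide +kernel

theorem twoS_4 : allR chkTwoS 10 4096 = true := by decide +kernel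

theorem twoS_5 : allR chkTwoS 10 5120 = true := by decide +kernel

theorem twoS_6 : allR chkTwoS 10 6144 = true := by decide +kernel

theorem twoS_7 : allR chkTwoS 10 7168 = true := by decide +kernel

theorem twoS_8 : allR chkTwoS 10 8192 = true := by decide +kernel

theorem twoS_9 : allR chkTwoS 10 9216 = true := by decide +kernel

theorem twoS_10 : allR chkTwoS 10 10240 = true := by decide +kernel

theorem twoS_11 : allR chkTwoS 10 11264 = true := by decide +kernel

theorem twoS_12 : allR chkTwoS 10 12288 = true := by decide +kernel

theorem twoS_13 : allR chkTwoS 10 13312 = true := by decide +kernel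

theorem twoS_all : ∀ k < 14, allR chkTwoS 10 (1024 * k) = true := by
  intro k hk
  interval_cases k
  exacts [twoS_0, twoS_1, twoS_2, twoS_3, twoS_4, twoS_5, twoS_6, twoS_7, twoS_8, twoS_9, twoS_10, twoS_11, twoS_12, twoS_13]

end CfsgLib.FiTwentyTwoCover
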