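import Cfsg.Agent.FiTwentyTwoCover.Quotient
import Cfsg.Agent.FiTwentyTwoCover.MatData
import Cfsg.Agent.FiTwentyTwoCover.TwoCox
import Cfsg.Agent.FiTwentyTwoCover.TwoSpider
import Cfsg.Agent.FiTwentyTwoCover.TwoFirst
import Cfsg.Agent.FiTwentyTwoCover.TwoSecond

set_option autoImplicit false
set_option maxRecDepth 100000
set_option exponentiation.threshold 100

/-!
# Involutions realising the covers of `Fi22`

Nine permutations of 28160 points (a double cover) and nine maps of a vector space of dimension 27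
over the field with four elements (a triple cover), with their relations checked in the kernel.
-/

namespace CfsgLib.FiTwentyTwoCover

open Cfsg.Spor CfsgLib.CosetEnum

theorem mem_pairs3 : ∀ x y, coxLabel Fi22.edges x y = 3 →
    (Fi22.ix x, Fi22.ix y) ∈ pairs3 ∨ (Fi22.ix y, Fi22.ix x) ∈ pairs3 := by
  intro x y h
  cases x <;> cases y <;> first | exact absurd h (by decide) | decide

theorem mem_pairs2 : ∀ x y, coxLabel Fi22.edges x y = 2 →
    (Fi22.ix x, Fi22.ix y) ∈ pairs2 ∨ (Fi22.ix y, Fi22.ix x) ∈ pairs2 := by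
  intro x y h
  cases x <;> cases y <;> first | exact absurd h (by decide) | decide

theorem ix_en_idem (x : ℕ) : Fi22.en (Fi22.ix (Fi22.en x)) = Fi22.en x :=
  (fun g => by cases g <;> rfl : ∀ g, Fi22.en (Fi22.ix g) = g) _

/-! ### The double cover -/

theorem flip_div (p : ℕ) : (p ^^^ 1) / 2 = p / 2 := by
  rw [Nat.xor_div_two]; simp

theorem flip_mod (p : ℕ) : (p ^^^ 1) % 2 = (p % 2) ^^^ 1 := by
  simpa using Nat.xor_mod_two_pow (a := p) (b := 1) (n := 1)

theorem xor_one_lt {p m : ℕ} (h : p < 2 * m) : p ^^^ 1 < 2 * m := by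
  have := flip_div p
  omega

theorem two_mul_xor_one (i : ℕ) : (2 * i) ^^^ 1 = 2 * i + 1 := by
  have h1 := flip_div (2 * i)
  have h2 := flip_mod (2 * i)
  rw [Nat.mul_mod_right] at h2
  simp only [Nat.zero_xor] at h2
  omega

theorem eq_flip_of_odd {p : ℕ} (h : p % 2 = 1) : p = (2 * (p / 2)) ^^^ 1 := by
  rw [two_mul_xor_one]; omega

theorem nxt_eq (x p : ℕ) : nxt x p = entTwo x (p / 2) ^^^ (p % 2) := by
  show entTwo x (p >>> 1) ^^^ (p &&& 1) = _
  rw [Nat.shiftRight_eq_div_pow, pow_one, Nat.and_one_is_mod]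

theorem nxt_flip (x p : ℕ) : nxt x (p ^^^ 1) = nxt x p ^^^ 1 := by
  rw [nxt_eq, nxt_eq, flip_div, flip_mod, Nat.xor_assoc]

theorem actW_flip (w : List ℕ) (p : ℕ) : actW nxt w (p ^^^ 1) = actW nxt w p ^^^ 1 := by
  induction w with
  | nil => rfl
  | cons x r ih => rw [actW_cons, actW_cons, ih, nxt_flip]

theorem chk_all {f : ℕ → Bool} (h : ∀ k < 14, allR f 10 (1024 * k) = true) (i : ℕ)
    (hi : i < 14080) : f i = true :=
  allR_spec 10 (1024 * (i / 1024)) (h _ (by omega)) i (by omega) (by norm_num; omega)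

theorem nxt_spec (x : ℕ) (hx : x < 9) (p : ℕ) (hp : p < 28160) :
    nxt x p < 28160 ∧ nxt x (nxt x p) = p := by
  have h := chk_all two_all (p / 2) (by omega)
  unfold chkTwo at h
  rw [show Nat.blt (p / 2) 14080 = true by simp; omega] at h
  simp only [cond_true, Bool.and_eq_true, List.all_eq_true, List.mem_range, Nat.blt_eq,
    Nat.beq_eq] at h
  obtain ⟨h1, h2⟩ := h.1.1 x hx
  rcases Nat.mod_two_eq_zero_or_one p with hp2 | hp2
  · have e : 2 * (p / 2) = p := by omega
    rw [e] at h1 h2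
    exact ⟨h1, h2⟩
  · have e := eq_flip_of_odd hp2
    rw [e, nxt_flip, nxt_flip, h2]
    refine ⟨?_, rfl⟩
    exact xor_one_lt (m := 14080) h1

theorem actW_two (w v : List ℕ) (h : ∀ i < 14080, actW nxt w (2 * i) = actW nxt v (2 * i))
    (p : ℕ) (hp : p < 28160) : actW nxt w p = actW nxt v p := by
  rcases Nat.mod_two_eq_zero_or_one p with hp2 | hp2
  · rw [show p = 2 * (p / 2) by omega]; exact h _ (by omega)
  · rw [eq_flip_of_odd hp2,
      actW_flip, actW_flip, h _ (by omega)]

/-- The flip as a permutation. -/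
def flipPerm : Equiv.Perm (Fin 28160) :=
  Function.Involutive.toPerm (fun p => ⟨p.1 ^^^ 1, xor_one_lt (m := 14080) p.2⟩)
    fun p => Fin.ext (by simp [Nat.xor_assoc])

/-- The involutions of the double cover. -/
noncomputable def permTwo (x : Fi22.Gen) : Equiv.Perm (Fin 28160) :=
  Function.Involutive.toPerm
    (fun p => ⟨nxt (Fi22.ix x) p.1, (nxt_spec _ (Fi22.setup.ix_lt x) p.1 p.2).1⟩)
    fun p => Fin.ext (nxt_spec _ (Fi22.setup.ix_lt x) p.1 p.2).2

/-- The letter of a number. -/
def cl (x : ℕ) : ℕ := Fi22.ix (Fi22.en x)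

theorem prodw_permTwo (w : List ℕ) (p : Fin 28160) :
    (prodw (permTwo ∘ Fi22.en) w p).1 = actW nxt (w.map cl) p.1 := by
  induction w with
  | nil => rfl
  | cons x r ih =>
    rw [prodw_cons, Equiv.Perm.mul_apply]
    show nxt (cl x) _ = _
    rw [ih, List.map_cons, actW_cons]

theorem permTwo_eq (w v : List ℕ) (h : ∀ i < 14080,
    actW nxt (w.map cl) (2 * i) = actW nxt (v.map cl) (2 * i)) :
    prodw (permTwo ∘ Fi22.en) w = prodw (permTwo ∘ Fi22.en) v :=
  Equiv.ext fun p => Fin.ext (by rw [prodw_permTwo, prodw_permTwo, actW_two _ _ h _ p.2])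

theorem permTwo_pair {a b : List ℕ} (x y : Fi22.Gen)
    (h : prodw (permTwo ∘ Fi22.en) a = prodw (permTwo ∘ Fi22.en) b)
    (ha : a.map Fi22.en = [x, y, x]) (hb : b.map Fi22.en = [y, x, y]) :
    permTwo x * permTwo y * permTwo x = permTwo y * permTwo x * permTwo y := by
  simp only [prodw, ← List.map_map, ha, hb, List.map_cons, List.map_nil, List.prod_cons,
    List.prod_nil, mul_one] at h
  simpa [mul_assoc] using h

theorem rels_permTwo : Rels permTwo 1 := by
  have hT : ∀ i < 14080, chkTwo i = true := chk_all two_all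
  refine ⟨fun x => Equiv.ext fun p => ?_, fun x => by simp, fun x y h => ?_, fun x y h => ?_⟩
  · exact Fin.ext (nxt_spec _ (Fi22.setup.ix_lt x) p.1 p.2).2
  · have key : ∀ {x y}, (Fi22.ix x, Fi22.ix y) ∈ pairs3 →
        permTwo x * permTwo y * permTwo x = permTwo y * permTwo x * permTwo y := by
      intro x y hm
      refine permTwo_pair (a := [Fi22.ix x, Fi22.ix y, Fi22.ix x])
        (b := [Fi22.ix y, Fi22.ix x, Fi22.ix y]) x y (permTwo_eq _ _ fun i hi => ?_)
        (by cases x <;> cases y <;> rfl) (by cases x <;> cases y <;> rfl)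
      have hc := hT i hi
      unfold chkTwo at hc
      rw [show Nat.blt i 14080 = true by simpa using hi] at hc
      simp only [cond_true, Bool.and_eq_true, List.all_eq_true, Nat.beq_eq] at hc
      have := hc.1.2 _ hm
      cases x <;> cases y <;> exact this
    rcases mem_pairs3 x y h with hm | hm
    · exact key hm
    · exact (key hm).symm
  · have key : ∀ {x y}, (Fi22.ix x, Fi22.ix y) ∈ pairs2 →
        permTwo x * permTwo y = permTwo y * permTwo x := by
      intro x y hm
      refine Equiv.ext fun p => Fin.ext ?_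
      suffices actW nxt [Fi22.ix x, Fi22.ix y] p.1 = actW nxt [Fi22.ix y, Fi22.ix x] p.1 by
        simp only [actW_cons, actW_nil] at this
        exact this
      refine actW_two _ _ (fun i hi => ?_) _ p.2
      have hc := hT i hi
      unfold chkTwo at hc
      rw [show Nat.blt i 14080 = true by simpa using hi] at hc
      simp only [cond_true, Bool.and_eq_true, List.all_eq_true, Nat.beq_eq] at hc
      exact hc.2 _ hm
    rcases mem_pairs2 x y h with hm | hm
    · exact key hm
    · exact (key hm).symm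

theorem prodw_permTwo_val (w : List ℕ) (c : ℕ) (hc : c < 2) (hw : w.map cl = w)
    (h : ∀ i < 14080, actW nxt w (2 * i) = (2 * i) ^^^ c) (p : Fin 28160) :
    (prodw (permTwo ∘ Fi22.en) w p).1 = p.1 ^^^ c := by
  rw [prodw_permTwo, hw]
  rcases Nat.mod_two_eq_zero_or_one p.1 with hp2 | hp2
  · rw [show p.1 = 2 * (p.1 / 2) by omega]; exact h _ (by omega)
  · rw [eq_flip_of_odd hp2,
      actW_flip, h _ (by omega), Nat.xor_assoc, Nat.xor_comm c, ← Nat.xor_assoc]

theorem permTwo_spider :
    prodw (permTwo ∘ Fi22.en) (List.replicate 10 [3, 2, 1, 3, 4, 5, 3, 7, 8]).flatten = 1 := by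
  refine Equiv.ext fun p => Fin.ext ((prodw_permTwo_val _ 0 (by norm_num) (by decide)
    (fun i hi => ?_) p).trans (Nat.xor_zero _))
  have hc := chk_all twoS_all i hi
  unfold chkTwoS at hc
  rw [show Nat.blt i 14080 = true by simpa using hi] at hc
  simpa using Nat.eq_of_beq_eq_true hc

theorem permTwo_first :
    prodw (permTwo ∘ Fi22.en) (List.replicate 9 [0, 1, 2, 3, 4, 5, 7]).flatten = flipPerm := by
  refine Equiv.ext fun p => Fin.ext (prodw_permTwo_val _ 1 (by norm_num) (by decide)
    (fun i hi => ?_) p)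
  have hc := chk_all twoA_all i hi
  unfold chkTwoA at hc
  rw [show Nat.blt i 14080 = true by simpa using hi] at hc
  rw [two_mul_xor_one]
  simpa using Nat.eq_of_beq_eq_true hc

theorem permTwo_second :
    prodw (permTwo ∘ Fi22.en) (List.replicate 9 [1, 2, 3, 4, 5, 6, 7]).flatten = 1 := by
  refine Equiv.ext fun p => Fin.ext ((prodw_permTwo_val _ 0 (by norm_num) (by decide)
    (fun i hi => ?_) p).trans (Nat.xor_zero _))
  have hc := chk_all twoB_all i hi
  unfold chkTwoB at hc
  rw [show Nat.blt i 14080 = true by simpa using hi] at hc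
  simpa using Nat.eq_of_beq_eq_true hc

theorem flipPerm_comm (x : Fi22.Gen) : flipPerm * permTwo x = permTwo x * flipPerm :=
  Equiv.ext fun p => Fin.ext (nxt_flip (Fi22.ix x) p.1).symm

/-! ### The triple cover -/

/-- A linear map given by the images of the basis. -/
def app : List ℕ → ℕ → ℕ
  | [], _ => 0
  | r :: rs, v => (bif Nat.beq (v % 2) 1 then r else 0) ^^^ app rs (v / 2)

theorem app_xor : ∀ (rs : List ℕ) (v w : ℕ), app rs (v ^^^ w) = app rs v ^^^ app rs w := by
  intro rs
  induction rs with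
  | nil => intros; simp [app]
  | cons r rs ih =>
    intro v w
    simp only [app]
    rw [Nat.xor_div_two, ih]
    have hm : (v ^^^ w) % 2 = (v % 2) ^^^ (w % 2) := by
      simpa using Nat.xor_mod_two_pow (a := v) (b := w) (n := 1)
    rw [hm]
    generalize app rs (v / 2) = a
    generalize app rs (w / 2) = b
    rcases Nat.mod_two_eq_zero_or_one v with h | h <;>
      rcases Nat.mod_two_eq_zero_or_one w with h' | h' <;>
      simp [h, h', show Nat.beq 0 1 = false from rfl, Nat.xor_assoc, Nat.xor_comm a, Nat.xor_left_comm]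

theorem app_lt : ∀ (rs : List ℕ) (v : ℕ), (∀ r ∈ rs, r < 2 ^ 54) → app rs v < 2 ^ 54 := by
  intro rs
  induction rs with
  | nil => intros; exact Nat.two_pow_pos 54
  | cons r rs ih =>
    intro v h
    simp only [app]
    refine Nat.xor_lt_two_pow ?_ (ih _ fun x hx => h x (List.mem_cons_of_mem _ hx))
    cases Nat.beq (v % 2) 1
    · exact Nat.two_pow_pos 54
    · exact h r List.mem_cons_self

/-- The linear map of a letter. -/
def lin (x v : ℕ) : ℕ := app (mt x) v

theorem actW_xor (w : List ℕ) (u v : ℕ) :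
    actW lin w (u ^^^ v) = actW lin w u ^^^ actW lin w v := by
  induction w with
  | nil => rfl
  | cons x r ih => rw [actW_cons, actW_cons, actW_cons, ih, lin, app_xor]; rfl

theorem xor_hom_ext (f g : ℕ → ℕ) (hf : ∀ u v, f (u ^^^ v) = f u ^^^ f v)
    (hg : ∀ u v, g (u ^^^ v) = g u ^^^ g v) :
    ∀ n, (∀ j < n, f (2 ^ j) = g (2 ^ j)) → ∀ v < 2 ^ n, f v = g v := by
  have h0 : ∀ e : ℕ → ℕ, (∀ u v, e (u ^^^ v) = e u ^^^ e v) → e 0 = 0 := fun e he => by
    have := he 0 0
    simpa using this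
  intro n
  induction n with
  | zero =>
    intro _ v hv
    obtain rfl : v = 0 := by simpa using hv
    rw [h0 f hf, h0 g hg]
  | succ n ih =>
    intro h v hv
    rcases Nat.lt_or_ge v (2 ^ n) with hlt | hge
    · exact ih (fun j hj => h j (by omega)) v hlt
    · have hlt : v ^^^ 2 ^ n < 2 ^ n := by
        refine Nat.lt_pow_two_of_testBit _ fun i hi => ?_
        rw [Nat.testBit_xor, Nat.testBit_two_pow]
        rcases Nat.eq_or_lt_of_le hi with rfl | hlt'
        · have hd : v / 2 ^ n = 1 := by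
            refine Nat.div_eq_of_lt_le (by omega) ?_
            rw [pow_succ] at hv; omega
          simp [Nat.testBit_eq_decide_div_mod_eq, hd]
        · rw [Nat.testBit_lt_two_pow (lt_of_lt_of_le hv (Nat.pow_le_pow_right (by norm_num) hlt'))]
          simp [Nat.ne_of_lt hlt']
      have e : v = (v ^^^ 2 ^ n) ^^^ 2 ^ n := by simp [Nat.xor_assoc]
      rw [e, hf, hg, ih (fun j hj => h j (by omega)) _ hlt, h n (by omega)]

theorem mt_lt : (List.range 9).all (fun x => (mt x).all fun r => Nat.blt r (2 ^ 54)) = true := by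
  decide +kernel

theorem mOmega_lt : mOmega.all (fun r => Nat.blt r (2 ^ 54)) = true := by decide +kernel

/-- The size of the vector space. -/
def size54 : ℕ := 2 ^ 54

/-- The vectors. -/
abbrev Vec54 : Type := {v : ℕ // v < size54}

theorem lin_lt (x : Fi22.Gen) (v : ℕ) : lin (Fi22.ix x) v < 2 ^ 54 := by
  refine app_lt _ _ fun r hr => ?_
  have h := List.all_eq_true.1 mt_lt (Fi22.ix x) (List.mem_range.2 (Fi22.setup.ix_lt x))
  simpa using List.all_eq_true.1 h r hr

/-- Checks on a basis vector. -/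
noncomputable def chkThree (j : ℕ) : Bool :=
  (List.range 9).all (fun x => Nat.beq (actW lin [x, x] (2 ^ j)) (2 ^ j) &&
    Nat.beq (lin x (app mOmega (2 ^ j))) (app mOmega (lin x (2 ^ j)))) &&
  pairs3.all (fun q => Nat.beq (actW lin [q.1, q.2, q.1] (2 ^ j)) (actW lin [q.2, q.1, q.2] (2 ^ j))) &&
  pairs2.all (fun q => Nat.beq (actW lin [q.1, q.2] (2 ^ j)) (actW lin [q.2, q.1] (2 ^ j))) &&
  Nat.beq (actW lin (List.replicate 10 [3, 2, 1, 3, 4, 5, 3, 7, 8]).flatten (2 ^ j))
    (app mOmega (2 ^ j)) &&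
  Nat.beq (actW lin (List.replicate 9 [0, 1, 2, 3, 4, 5, 7]).flatten (2 ^ j)) (2 ^ j) &&
  Nat.beq (actW lin (List.replicate 9 [1, 2, 3, 4, 5, 6, 7]).flatten (2 ^ j)) (2 ^ j) &&
  Nat.beq (app mOmega (app mOmega (app mOmega (2 ^ j)))) (2 ^ j)

theorem three_ok : (List.range 54).all chkThree = true := by decide +kernel

theorem three_spec {j : ℕ} (hj : j < 54) :
    (∀ x < 9, actW lin [x, x] (2 ^ j) = 2 ^ j ∧
      lin x (app mOmega (2 ^ j)) = app mOmega (lin x (2 ^ j))) ∧
    (∀ q ∈ pairs3, actW lin [q.1, q.2, q.1] (2 ^ j) = actW lin [q.2, q.1, q.2] (2 ^ j)) ∧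
    (∀ q ∈ pairs2, actW lin [q.1, q.2] (2 ^ j) = actW lin [q.2, q.1] (2 ^ j)) ∧
    actW lin (List.replicate 10 [3, 2, 1, 3, 4, 5, 3, 7, 8]).flatten (2 ^ j) =
      app mOmega (2 ^ j) ∧
    actW lin (List.replicate 9 [0, 1, 2, 3, 4, 5, 7]).flatten (2 ^ j) = 2 ^ j ∧
    actW lin (List.replicate 9 [1, 2, 3, 4, 5, 6, 7]).flatten (2 ^ j) = 2 ^ j ∧
    app mOmega (app mOmega (app mOmega (2 ^ j))) = 2 ^ j := by
  have h := List.all_eq_true.1 three_ok j (List.mem_range.2 hj)
  simp only [chkThree, Bool.and_eq_true, List.all_eq_true, List.mem_range, Nat.beq_eq] at h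
  obtain ⟨⟨⟨⟨⟨⟨h1, h2⟩, h3⟩, h4⟩, h5⟩, h6⟩, h7⟩ := h
  exact ⟨h1, h2, h3, h4, h5, h6, h7⟩

theorem lin_invol (x : Fi22.Gen) (v : ℕ) (hv : v < 2 ^ 54) :
    lin (Fi22.ix x) (lin (Fi22.ix x) v) = v :=
  xor_hom_ext (fun v => lin (Fi22.ix x) (lin (Fi22.ix x) v)) id
    (fun u v => by simp only [lin, app_xor]) (fun _ _ => rfl) 54
    (fun _ hj => by
      have e := ((three_spec hj).1 _ (Fi22.setup.ix_lt x)).1
      simp only [actW_cons, actW_nil] at e
      exact e) v hv

/-- The involutions of the triple cover. -/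
noncomputable def permThree (x : Fi22.Gen) : Equiv.Perm Vec54 :=
  Function.Involutive.toPerm (fun v => ⟨lin (Fi22.ix x) v.1, lin_lt x _⟩)
    fun v => Subtype.ext (lin_invol x v.1 v.2)

theorem prodw_permThree (w : List ℕ) (v : Vec54) :
    (prodw (permThree ∘ Fi22.en) w v).1 = actW lin (w.map cl) v.1 := by
  induction w with
  | nil => rfl
  | cons x r ih =>
    rw [prodw_cons, Equiv.Perm.mul_apply]
    show lin (cl x) _ = _
    rw [ih, List.map_cons, actW_cons]

theorem rels_permThree : Rels permThree 1 := by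
  refine ⟨fun x => Equiv.ext fun v => Subtype.ext (lin_invol x v.1 v.2), fun x => by simp,
    fun x y h => ?_, fun x y h => ?_⟩
  · have key : ∀ {x y}, (Fi22.ix x, Fi22.ix y) ∈ pairs3 →
        permThree x * permThree y * permThree x = permThree y * permThree x * permThree y := by
      intro x y hm
      refine Equiv.ext fun v => Subtype.ext ?_
      have e := xor_hom_ext (fun v => actW lin [Fi22.ix x, Fi22.ix y, Fi22.ix x] v)
        (fun v => actW lin [Fi22.ix y, Fi22.ix x, Fi22.ix y] v) (actW_xor _) (actW_xor _) 54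
        (fun _ hj => (three_spec hj).2.1 _ hm) v.1 v.2
      simp only [actW_cons, actW_nil] at e
      exact e
    rcases mem_pairs3 x y h with hm | hm
    · exact key hm
    · exact (key hm).symm
  · have key : ∀ {x y}, (Fi22.ix x, Fi22.ix y) ∈ pairs2 →
        permThree x * permThree y = permThree y * permThree x := by
      intro x y hm
      refine Equiv.ext fun v => Subtype.ext ?_
      have e := xor_hom_ext (fun v => actW lin [Fi22.ix x, Fi22.ix y] v)
        (fun v => actW lin [Fi22.ix y, Fi22.ix x] v) (actW_xor _) (actW_xor _) 54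
        (fun _ hj => (three_spec hj).2.2.1 _ hm) v.1 v.2
      simp only [actW_cons, actW_nil] at e
      exact e
    rcases mem_pairs2 x y h with hm | hm
    · exact key hm
    · exact (key hm).symm

theorem app_omega_lt (v : ℕ) : app mOmega v < 2 ^ 54 :=
  app_lt _ _ fun r hr => by simpa using List.all_eq_true.1 mOmega_lt r hr

theorem omega_cube (v : ℕ) (hv : v < 2 ^ 54) :
    app mOmega (app mOmega (app mOmega v)) = v :=
  xor_hom_ext (fun v => app mOmega (app mOmega (app mOmega v))) id
    (fun u v => by simp only [app_xor]) (fun _ _ => rfl) 54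
    (fun _ hj => (three_spec hj).2.2.2.2.2.2) v hv

/-- The scalar of order three. -/
def omegaPerm : Equiv.Perm Vec54 where
  toFun v := ⟨app mOmega v.1, app_omega_lt _⟩
  invFun v := ⟨app mOmega (app mOmega v.1), app_omega_lt _⟩
  left_inv v := Subtype.ext (omega_cube v.1 v.2)
  right_inv v := Subtype.ext (omega_cube v.1 v.2)

theorem omegaPerm_comm (x : Fi22.Gen) : omegaPerm * permThree x = permThree x * omegaPerm :=
  Equiv.ext fun v => Subtype.ext (xor_hom_ext
    (fun v => app mOmega (lin (Fi22.ix x) v)) (fun v => lin (Fi22.ix x) (app mOmega v))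
    (fun u v => by simp only [lin, app_xor]) (fun u v => by simp only [lin, app_xor]) 54
    (fun _ hj => ((three_spec hj).1 _ (Fi22.setup.ix_lt x)).2.symm) v.1 v.2)

theorem permThree_spider :
    prodw (permThree ∘ Fi22.en) (List.replicate 10 [3, 2, 1, 3, 4, 5, 3, 7, 8]).flatten =
      omegaPerm := by
  refine Equiv.ext fun v => Subtype.ext ?_
  rw [prodw_permThree, show (List.replicate 10 [3, 2, 1, 3, 4, 5, 3, 7, 8]).flatten.map cl =
    (List.replicate 10 [3, 2, 1, 3, 4, 5, 3, 7, 8]).flatten by decide]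
  exact xor_hom_ext _ (app mOmega) (actW_xor _) (app_xor _) 54
    (fun _ hj => (three_spec hj).2.2.2.1) v.1 v.2

theorem permThree_first :
    prodw (permThree ∘ Fi22.en) (List.replicate 9 [0, 1, 2, 3, 4, 5, 7]).flatten = 1 := by
  refine Equiv.ext fun v => Subtype.ext ?_
  rw [prodw_permThree, show (List.replicate 9 [0, 1, 2, 3, 4, 5, 7]).flatten.map cl =
    (List.replicate 9 [0, 1, 2, 3, 4, 5, 7]).flatten by decide]
  exact xor_hom_ext _ id (actW_xor _) (fun _ _ => rfl) 54
    (fun _ hj => (three_spec hj).2.2.2.2.1) v.1 v.2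

theorem permThree_second :
    prodw (permThree ∘ Fi22.en) (List.replicate 9 [1, 2, 3, 4, 5, 6, 7]).flatten = 1 := by
  refine Equiv.ext fun v => Subtype.ext ?_
  rw [prodw_permThree, show (List.replicate 9 [1, 2, 3, 4, 5, 6, 7]).flatten.map cl =
    (List.replicate 9 [1, 2, 3, 4, 5, 6, 7]).flatten by decide]
  exact xor_hom_ext _ id (actW_xor _) (fun _ _ => rfl) 54
    (fun _ hj => (three_spec hj).2.2.2.2.2.1) v.1 v.2

end CfsgLib.FiTwentyTwoCover
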