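import Cfsg.Agent.CosetEnum.Fi22.Setup

set_option autoImplicit false

/-!
# Rewriting words in the Coxeter generators

A certificate that a word reduces to the empty word by braid moves, commutations and deletions of
squares, valid in every group in which the squares of the generators are one central element.
-/

namespace CfsgLib.FiTwentyTwoCover

open Cfsg.Spor CfsgLib.CosetEnum

/-- The label of two letters. -/
def lab (x y : ℕ) : ℕ := coxLabel Fi22.edges (Fi22.en x) (Fi22.en y)

/-- One move at a position: `0` commute, `1` braid, `2` delete a square. -/
def move : ℕ → ℕ → List ℕ → Option (List ℕ × ℕ)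
  | 0, 0, x :: y :: r => if lab x y = 2 then some (y :: x :: r, 0) else none
  | 0, 1, x :: y :: z :: r =>
    if x = z ∧ lab x y = 3 then some (y :: x :: y :: r, 0) else none
  | 0, 2, x :: y :: r => if x = y then some (r, 1) else none
  | p + 1, k, x :: r => (move p k r).map fun o => (x :: o.1, o.2)
  | _, _, _ => none

/-- Apply the moves, each coded as `4 * position + kind`, counting deletions. -/
def run : List ℕ → List ℕ → ℕ → Option (List ℕ × ℕ)
  | [], w, c => some (w, c)
  | m :: ms, w, c =>
    match move (m / 4) (m % 4) w with
    | none => none
    | some o => run ms o.1 (c + o.2)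

/-- A word reduces to the empty word with the given number of deletions. -/
def reduces (ms w : List ℕ) (c : ℕ) : Bool :=
  match run ms w 0 with
  | some ([], d) => d == c
  | _ => false

/-- The relations needed by the moves. -/
structure Rels {G : Type*} [Group G] (f : Fi22.Gen → G) (s : G) : Prop where
  sq : ∀ x, f x * f x = s
  central : ∀ x, s * f x = f x * s
  braid : ∀ x y, coxLabel Fi22.edges x y = 3 → f x * f y * f x = f y * f x * f y
  comm : ∀ x y, coxLabel Fi22.edges x y = 2 → f x * f y = f y * f x

variable {G : Type*} [Group G] {f : Fi22.Gen → G} {s : G}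

theorem Rels.central_prodw (R : Rels f s) (w : List ℕ) :
    s * prodw (f ∘ Fi22.en) w = prodw (f ∘ Fi22.en) w * s := by
  induction w with
  | nil => simp [prodw]
  | cons x r ih =>
    rw [prodw_cons, Function.comp_apply, ← mul_assoc, R.central, mul_assoc, ih, mul_assoc]

theorem move_sound (R : Rels f s) : ∀ (p k : ℕ) (w : List ℕ) (o : List ℕ × ℕ),
    move p k w = some o → prodw (f ∘ Fi22.en) w = prodw (f ∘ Fi22.en) o.1 * s ^ o.2 := by
  intro p
  induction p with
  | zero =>
    intro k w o h
    match k, w with
    | 0, x :: y :: r =>
      simp only [move] at h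
      split at h
      · rename_i hl
        obtain rfl := Option.some.inj h
        simp only [prodw_cons, Function.comp_apply, pow_zero, mul_one, ← mul_assoc]
        rw [R.comm _ _ hl]
      · cases h
    | 1, x :: y :: z :: r =>
      simp only [move] at h
      split at h
      · rename_i hl
        obtain ⟨rfl, hl⟩ := hl
        obtain rfl := Option.some.inj h
        simp only [prodw_cons, Function.comp_apply, pow_zero, mul_one, ← mul_assoc]
        rw [R.braid _ _ hl]
      · cases h
    | 2, x :: y :: r =>
      simp only [move] at h
      split at h
      · rename_i hl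
        subst hl
        obtain rfl := Option.some.inj h
        simp only [prodw_cons, Function.comp_apply, pow_one, ← mul_assoc]
        rw [R.sq, R.central_prodw]
      · cases h
    | 0, [] | 0, [_] | 1, [] | 1, [_] | 1, [_, _] | 2, [] | 2, [_] | k + 3, [] | k + 3, _ :: _ =>
      simp [move] at h
  | succ p ih =>
    intro k w o h
    match w with
    | [] => simp [move] at h
    | x :: r =>
      simp only [move, Option.map_eq_some_iff] at h
      obtain ⟨o', h', rfl⟩ := h
      rw [prodw_cons, ih k r o' h', prodw_cons, mul_assoc]

theorem run_sound (R : Rels f s) : ∀ (ms w : List ℕ) (c : ℕ) (o : List ℕ × ℕ),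
    run ms w c = some o →
      prodw (f ∘ Fi22.en) w * s ^ c = prodw (f ∘ Fi22.en) o.1 * s ^ o.2 := by
  intro ms
  induction ms with
  | nil => intro w c o h; obtain rfl := Option.some.inj h; rfl
  | cons m ms ih =>
    intro w c o h
    simp only [run] at h
    split at h
    · cases h
    · rename_i o' ho'
      rw [← ih _ _ _ h, move_sound R _ _ _ _ ho', mul_assoc, ← pow_add, add_comm c]

theorem reduces_sound (R : Rels f s) {ms w : List ℕ} {c : ℕ} (h : reduces ms w c = true) :
    prodw (f ∘ Fi22.en) w = s ^ c := by
  unfold reduces at h
  split at h
  · rename_i d hd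
    have := run_sound R ms w 0 _ hd
    rw [beq_iff_eq] at h
    subst h
    simpa [prodw] using this
  · cases h

end CfsgLib.FiTwentyTwoCover
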