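import Cfsg.Agent.FiTwentyTwoCover.Moves

set_option autoImplicit false

/-!
# Lifts of the generators of `Fi22`

Involutions satisfying the Coxeter relations exactly, with the three further relators landing in a
central subgroup, give a section modulo that subgroup.
-/

namespace CfsgLib.FiTwentyTwoCover

open Cfsg.Spor CfsgLib.CosetEnum

variable {L : Type} [Group L]

/-- A subgroup in the centre. -/
theorem normal_of_central {N : Subgroup L} (h : ∀ n ∈ N, ∀ g, g * n = n * g) : N.Normal :=
  ⟨fun n hn g => by rw [h n hn g, mul_inv_cancel_right]; exact hn⟩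

/-- The kernel of a map to `Fi22` lies in any central subgroup containing the relator values. -/
theorem ker_le_of_rels (σ : L →* Fi22) (f : Fi22.Gen → L) (N : Subgroup L) (R : Rels f 1)
    (hN : ∀ n ∈ N, ∀ g, g * n = n * g) (hz : ∀ r ∈ Fi22.extra, FreeGroup.lift f r ∈ N)
    (hσ : ∀ x, σ (f x) = PresentedGroup.of x) (hgen : Subgroup.closure (Set.range f) = ⊤) :
    σ.ker ≤ N := by
  haveI := normal_of_central hN
  let q : L →* L ⧸ N := QuotientGroup.mk' N
  have hrel : ∀ r ∈ coxRelators Fi22.edges ∪ {r | r ∈ Fi22.extra},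
      FreeGroup.lift (q ∘ f) r = 1 := by
    intro r hr
    have hl : FreeGroup.lift (q ∘ f) r = q (FreeGroup.lift f r) := by
      have : FreeGroup.lift (q ∘ f) = q.comp (FreeGroup.lift f) := by ext; simp
      rw [this]; rfl
    rw [hl]
    rcases hr with hr | hr
    · obtain ⟨x, hx, y, hy, rfl⟩ := hr
      refine (congrArg q ?_).trans q.map_one
      rw [map_pow, map_mul, FreeGroup.lift_apply_of, FreeGroup.lift_apply_of]
      rcases (show coxLabel Fi22.edges x y = 1 ∧ x = y ∨ coxLabel Fi22.edges x y = 2 ∨
          coxLabel Fi22.edges x y = 3 by cases x <;> cases y <;> decide) with ⟨h, rfl⟩ | h | h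
      · rw [h, pow_one, R.sq]
      · rw [h, pow_two]
        calc f x * f y * (f x * f y) = f x * f y * (f y * f x) := by rw [R.comm x y h]
          _ = f x * (f y * f y) * f x := by simp [mul_assoc]
          _ = 1 := by rw [R.sq, mul_one, R.sq]
      · rw [h]
        calc (f x * f y) ^ 3 = f x * f y * f x * (f y * f x * f y) := by simp [pow_succ, mul_assoc]
          _ = f x * f y * f x * (f x * f y * f x) := by rw [R.braid x y h]
          _ = f x * f y * (f x * f x) * f y * f x := by simp [mul_assoc]
          _ = f x * (f y * f y) * f x := by rw [R.sq, mul_one]; simp [mul_assoc]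
          _ = 1 := by rw [R.sq, mul_one, R.sq]
    · exact (QuotientGroup.eq_one_iff _).2 (hz r hr)
  let ψ : Fi22 →* L ⧸ N := PresentedGroup.toGroup hrel
  have hψ : ψ.comp σ = q := by
    refine MonoidHom.eq_of_eqOn_dense hgen ?_
    rintro _ ⟨x, rfl⟩
    rw [MonoidHom.comp_apply, hσ]
    exact PresentedGroup.toGroup.of hrel
  intro z hz'
  rw [← QuotientGroup.eq_one_iff (N := N) z]
  show q z = 1
  rw [← hψ, MonoidHom.comp_apply, MonoidHom.mem_ker.1 hz', map_one]

/-- The values of the three further relators as words. -/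
theorem lift_extra {f : Fi22.Gen → L} (hf : ∀ a, f a * f a = 1) :
    Fi22.extra.map (FreeGroup.lift f) = Fi22.exW.map (prodw (f ∘ Fi22.en)) :=
  Fi22.exW_eq L f hf

theorem exW_eq_replicate :
    Fi22.exW = [(List.replicate 10 [3, 2, 1, 3, 4, 5, 3, 7, 8]).flatten,
      (List.replicate 9 [0, 1, 2, 3, 4, 5, 7]).flatten,
      (List.replicate 9 [1, 2, 3, 4, 5, 6, 7]).flatten] := by decide

end CfsgLib.FiTwentyTwoCover
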