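import Cfsg.Agent.FiTwentyTwoCover.Covers
import Cfsg.Prelude.Def_KGroupFacts
import Mathlib.Data.ZMod.Basic

set_option autoImplicit false
set_option maxRecDepth 100000

/-!
# The six-fold cover of `Fi22`
-/

namespace CfsgLib.FiTwentyTwoCover

open Cfsg.Spor CfsgLib.CosetEnum
open scoped commutatorElement

/-- The group containing the cover. -/
abbrev Amb : Type := Fi22 × Equiv.Perm (Fin 28160) × Equiv.Perm Vec54

/-- The lifts of the generators. -/
noncomputable def lift6 (x : Fi22.Gen) : Amb := (PresentedGroup.of x, permTwo x, permThree x)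

/-- The central element of order six. -/
def central6 : Amb := (1, flipPerm, omegaPerm)

/-- The cover. -/
noncomputable def cover6 : Subgroup Amb := Subgroup.closure (Set.range lift6)

/-- The projection. -/
noncomputable def proj6 : cover6 →* Fi22 := (MonoidHom.fst _ _).comp cover6.subtype

theorem map_prodw_hom {A B : Type*} [Group A] [Group B] (h : A →* B) (f : Fi22.Gen → A)
    (w : List ℕ) : h (prodw (f ∘ Fi22.en) w) = prodw ((fun x => h (f x)) ∘ Fi22.en) w := by
  simp [prodw, map_list_prod, Function.comp_def]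

theorem rels_lift6 : Rels lift6 1 := by
  have hsq : ∀ x : Fi22.Gen, (PresentedGroup.of x : Fi22) * PresentedGroup.of x = 1 :=
    fun x => Fi22.setup.of_sq x
  have hrel : ∀ x y, ((PresentedGroup.of x : Fi22) * PresentedGroup.of y) ^
      coxLabel Fi22.edges x y = 1 := fun x y => by
    have := PresentedGroup.one_of_mem (rels := coxRelators Fi22.edges ∪ {r | r ∈ Fi22.extra})
      (x := (FreeGroup.of x * FreeGroup.of y) ^ coxLabel Fi22.edges x y)
      (Or.inl ⟨x, by cases x <;> decide, y, by cases y <;> decide, rfl⟩)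
    simpa [map_pow, map_mul, PresentedGroup.of] using this
  have hi : ∀ x : Fi22.Gen, (PresentedGroup.of x : Fi22)⁻¹ = PresentedGroup.of x :=
    fun x => inv_eq_of_mul_eq_one_left (hsq x)
  refine ⟨fun x => Prod.ext (hsq x) (Prod.ext (rels_permTwo.sq x) (rels_permThree.sq x)),
    fun x => by simp, fun x y h => ?_, fun x y h => ?_⟩
  · refine Prod.ext ?_ (Prod.ext (rels_permTwo.braid x y h) (rels_permThree.braid x y h))
    have := hrel x y
    rw [h] at this
    show (PresentedGroup.of x : Fi22) * PresentedGroup.of y * PresentedGroup.of x = _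
    have e : (PresentedGroup.of x : Fi22) * PresentedGroup.of y * PresentedGroup.of x *
        (PresentedGroup.of y * PresentedGroup.of x * PresentedGroup.of y) = 1 := by
      simpa [pow_succ, mul_assoc] using this
    rw [eq_inv_of_mul_eq_one_left e]
    simp [mul_assoc, hi, lift6]
  · refine Prod.ext ?_ (Prod.ext (rels_permTwo.comm x y h) (rels_permThree.comm x y h))
    have := hrel x y
    rw [h, pow_two] at this
    show (PresentedGroup.of x : Fi22) * PresentedGroup.of y = _
    rw [eq_inv_of_mul_eq_one_left this, mul_inv_rev, hi, hi]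
    rfl

theorem fst_value {w : List ℕ} (hw : w ∈ Fi22.exW) :
    (prodw (lift6 ∘ Fi22.en) w).1 = 1 := by
  show MonoidHom.fst _ _ (prodw (lift6 ∘ Fi22.en) w) = 1
  rw [map_prodw_hom]
  have e : (fun x => MonoidHom.fst _ _ (lift6 x)) = fun x => (PresentedGroup.of x : Fi22) := rfl
  rw [e]
  have h := lift_extra (L := Fi22) (f := fun x => (PresentedGroup.of x : Fi22))
    (fun x => Fi22.setup.of_sq x)
  have hm : prodw ((fun x => (PresentedGroup.of x : Fi22)) ∘ Fi22.en) w ∈
      Fi22.exW.map (prodw ((fun x => (PresentedGroup.of x : Fi22)) ∘ Fi22.en)) :=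
    List.mem_map_of_mem hw
  rw [← h] at hm
  obtain ⟨r, hr, e'⟩ := List.mem_map.1 hm
  rw [← e']
  have hl : FreeGroup.lift (fun x => (PresentedGroup.of x : Fi22)) =
      PresentedGroup.mk (coxRelators Fi22.edges ∪ {r | r ∈ Fi22.extra}) :=
    FreeGroup.ext_hom _ _ fun x => by simp [PresentedGroup.of]
  rw [hl]
  exact PresentedGroup.one_of_mem (Or.inr hr)

theorem snd_value (w : List ℕ) : (prodw (lift6 ∘ Fi22.en) w).2 =
    (prodw (permTwo ∘ Fi22.en) w, prodw (permThree ∘ Fi22.en) w) := by
  refine Prod.ext ?_ ?_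
  · exact map_prodw_hom ((MonoidHom.fst _ _).comp (MonoidHom.snd _ _)) lift6 w
  · exact map_prodw_hom ((MonoidHom.snd _ _).comp (MonoidHom.snd _ _)) lift6 w

theorem spider_value :
    prodw (lift6 ∘ Fi22.en) (List.replicate 10 [3, 2, 1, 3, 4, 5, 3, 7, 8]).flatten =
      (1, 1, omegaPerm) :=
  Prod.ext (fst_value (by rw [exW_eq_replicate]; simp))
    (by rw [snd_value, permTwo_spider, permThree_spider])

theorem first_value :
    prodw (lift6 ∘ Fi22.en) (List.replicate 9 [0, 1, 2, 3, 4, 5, 7]).flatten =
      (1, flipPerm, 1) :=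
  Prod.ext (fst_value (by rw [exW_eq_replicate]; simp))
    (by rw [snd_value, permTwo_first, permThree_first])

theorem second_value :
    prodw (lift6 ∘ Fi22.en) (List.replicate 9 [1, 2, 3, 4, 5, 6, 7]).flatten = 1 :=
  Prod.ext (fst_value (by rw [exW_eq_replicate]; simp))
    (by rw [snd_value, permTwo_second, permThree_second]; rfl)

theorem flip_sq : flipPerm * flipPerm = 1 :=
  Equiv.ext fun p => Fin.ext (by
    show (p.1 ^^^ 1) ^^^ 1 = p.1
    simp [Nat.xor_assoc])

theorem omega_pow_three : omegaPerm * omegaPerm * omegaPerm = 1 :=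
  Equiv.ext fun v => Subtype.ext (omega_cube v.1 v.2)

theorem omega_sq_ne : omegaPerm * omegaPerm ≠ 1 := fun h => by
  have h' := congrArg (fun e : Equiv.Perm Vec54 => (e ⟨1, show 1 < 2 ^ 54 by norm_num⟩).1) h
  revert h'
  show app mOmega (app mOmega 1) = 1 → False
  decide +kernel

theorem flip_ne : flipPerm ≠ 1 := fun h => by
  have h' := congrArg (fun e : Equiv.Perm (Fin 28160) => (e 0).1) h
  exact absurd (show (0 ^^^ 1 : ℕ) = 0 from h') (by decide)

theorem orderOf_central6 : orderOf central6 = 6 := by
  have h2 : central6 ^ 2 = (1, 1, omegaPerm * omegaPerm) := by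
    rw [pow_two]; exact Prod.ext (mul_one 1) (Prod.ext flip_sq rfl)
  have h3 : central6 ^ 3 = (1, flipPerm, 1) := by
    rw [pow_succ, h2]
    exact Prod.ext (mul_one 1) (Prod.ext (one_mul _) omega_pow_three)
  have h6 : central6 ^ 6 = 1 := by
    rw [show 6 = 3 * 2 from rfl, pow_mul, h3, pow_two]
    exact Prod.ext (mul_one 1) (Prod.ext flip_sq (mul_one 1))
  refine (orderOf_eq_iff (by norm_num)).2 ⟨h6, fun m hm hm0 hone => ?_⟩
  interval_cases m
  · exact flip_ne (congrArg (fun z : Amb => z.2.1) ((pow_one _).symm.trans hone))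
  · exact omega_sq_ne (congrArg (fun z : Amb => z.2.2) (h2 ▸ hone))
  · exact flip_ne (congrArg (fun z : Amb => z.2.1) (h3 ▸ hone))
  · have : central6 ^ 2 = 1 := by
      rw [show 6 = 4 + 2 from rfl, pow_add, hone, one_mul] at h6; exact h6
    exact omega_sq_ne (congrArg (fun z : Amb => z.2.2) (h2 ▸ this))
  · have : central6 = 1 := by
      rw [show 6 = 5 + 1 from rfl, pow_succ, hone, one_mul] at h6; exact h6
    exact flip_ne (congrArg (fun z : Amb => z.2.1) this)

theorem values_zpowers :
    ((1, 1, omegaPerm) : Amb) ∈ Subgroup.zpowers central6 ∧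
      ((1, flipPerm, 1) : Amb) ∈ Subgroup.zpowers central6 := by
  have h2 : central6 ^ 2 = (1, 1, omegaPerm * omegaPerm) := by
    rw [pow_two]; exact Prod.ext (mul_one 1) (Prod.ext flip_sq rfl)
  constructor
  · refine ⟨4, (zpow_natCast _ 4).trans ?_⟩
    rw [show 4 = 2 + 2 from rfl, pow_add, h2]
    refine Prod.ext (mul_one 1) (Prod.ext (mul_one 1) ?_)
    show omegaPerm * omegaPerm * (omegaPerm * omegaPerm) = omegaPerm
    rw [← mul_assoc, omega_pow_three, one_mul]
  · refine ⟨3, (zpow_natCast _ 3).trans ?_⟩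
    rw [pow_succ, h2]
    exact Prod.ext (mul_one 1) (Prod.ext (one_mul _) omega_pow_three)

theorem central6_mem : central6 ∈ cover6 := by
  have hw : ∀ w, prodw (lift6 ∘ Fi22.en) w ∈ cover6 := fun w => by
    induction w with
    | nil => exact one_mem _
    | cons x r ih =>
      rw [prodw_cons]
      exact mul_mem (Subgroup.subset_closure ⟨Fi22.en x, rfl⟩) ih
  have e : central6 = (1, flipPerm, 1) * (1, 1, omegaPerm) :=
    Prod.ext (mul_one 1).symm (Prod.ext (mul_one _).symm (one_mul _).symm)
  rw [e, ← spider_value, ← first_value]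
  exact mul_mem (hw _) (hw _)

theorem central6_comm (g : Amb) (hg : g ∈ cover6) : g * central6 = central6 * g := by
  induction hg using Subgroup.closure_induction with
  | mem g hg =>
    obtain ⟨x, rfl⟩ := hg
    exact Prod.ext ((mul_one _).trans (one_mul _).symm)
      (Prod.ext (flipPerm_comm x).symm (omegaPerm_comm x).symm)
  | one => simp
  | mul a b _ _ ha hb => rw [mul_assoc, hb, ← mul_assoc, ha, mul_assoc]
  | inv a _ ha =>
    calc a⁻¹ * central6 = a⁻¹ * (central6 * a) * a⁻¹ := by simp [mul_assoc]
      _ = central6 * a⁻¹ := by rw [← ha]; simp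

theorem ker_proj6 : proj6.ker = (Subgroup.zpowers central6).subgroupOf cover6 := by
  refine le_antisymm ?_ ?_
  · refine ker_le_of_rels proj6 (fun x => ⟨lift6 x, Subgroup.subset_closure ⟨x, rfl⟩⟩) _ ?_ ?_ ?_
      (fun x => rfl) ?_
    · exact ⟨fun x => Subtype.ext (rels_lift6.sq x), fun x => by simp,
        fun x y h => Subtype.ext (rels_lift6.braid x y h),
        fun x y h => Subtype.ext (rels_lift6.comm x y h)⟩
    · intro n hn g
      obtain ⟨k, hk⟩ := Subgroup.mem_zpowers_iff.1 (Subgroup.mem_subgroupOf.1 hn)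
      refine Subtype.ext ?_
      show g.1 * n.1 = n.1 * g.1
      rw [← hk]
      exact ((show Commute g.1 central6 from central6_comm _ g.2).zpow_right k).eq
    · intro r hr
      have he : ∀ r, ((FreeGroup.lift
          (fun x => (⟨lift6 x, Subgroup.subset_closure ⟨x, rfl⟩⟩ : cover6)) r : cover6) : Amb) =
          FreeGroup.lift lift6 r := by
        intro r
        have : cover6.subtype.comp (FreeGroup.lift
            (fun x => (⟨lift6 x, Subgroup.subset_closure ⟨x, rfl⟩⟩ : cover6))) =
            FreeGroup.lift lift6 :=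
          FreeGroup.ext_hom _ _ fun x => by simp
        exact DFunLike.congr_fun this r
      rw [Subgroup.mem_subgroupOf, he]
      have hm : FreeGroup.lift lift6 r ∈ Fi22.extra.map (FreeGroup.lift lift6) :=
        List.mem_map_of_mem hr
      rw [lift_extra (fun a => rels_lift6.sq a), exW_eq_replicate] at hm
      simp only [List.map_cons, List.map_nil, List.mem_cons, List.not_mem_nil, or_false] at hm
      rcases hm with e | e | e <;> rw [e]
      · rw [spider_value]; exact values_zpowers.1
      · rw [first_value]; exact values_zpowers.2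
      · rw [second_value]; exact one_mem _
    · rw [eq_top_iff]
      rintro ⟨g, hg⟩ -
      induction hg using Subgroup.closure_induction with
      | mem g hg => obtain ⟨x, rfl⟩ := hg; exact Subgroup.subset_closure ⟨x, rfl⟩
      | one => exact one_mem _
      | mul a b _ _ ha hb => exact Subgroup.mul_mem _ ha hb
      | inv a _ ha => exact Subgroup.inv_mem _ ha
  · intro g hg
    obtain ⟨k, hk⟩ := Subgroup.mem_zpowers_iff.1 (Subgroup.mem_subgroupOf.1 hg)
    show g.1.1 = 1
    rw [← hk]
    show MonoidHom.fst _ _ (central6 ^ k) = 1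
    rw [map_zpow]
    exact one_zpow k

theorem cover6_perfect : commutator cover6 = ⊤ := by
  let q := Abelianization.of (G := cover6)
  let f : Fi22.Gen → cover6 := fun x => ⟨lift6 x, Subgroup.subset_closure ⟨x, rfl⟩⟩
  have heq : ∀ x y, coxLabel Fi22.edges x y = 3 → q (f x) = q (f y) := by
    intro x y h
    have := congrArg q (Subtype.ext (rels_lift6.braid x y h) : f x * f y * f x = f y * f x * f y)
    simp only [map_mul] at this
    rw [mul_comm (q (f x)) (q (f y)), mul_assoc, mul_assoc] at this
    have h2 := mul_left_cancel this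
    rw [mul_comm (q (f x)) (q (f y))] at h2
    exact mul_right_cancel h2
  have hsq : q (f .a) * q (f .a) = 1 := by
    rw [← map_mul, show f .a * f .a = 1 from Subtype.ext (rels_lift6.sq .a), map_one]
  have ab := heq .a .b (by decide)
  have bc := ab.trans (heq .b .c (by decide))
  have cd := bc.trans (heq .c .d (by decide))
  have de := cd.trans (heq .d .e (by decide))
  have ef := de.trans (heq .e .f (by decide))
  have fg := ef.trans (heq .f .g (by decide))
  have dh := cd.trans (heq .d .h (by decide))
  have hi := dh.trans (heq .h .i (by decide))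
  have hall : ∀ x, q (f x) = q (f .a) := fun x => by
    cases x <;> first | rfl | exact Eq.symm ‹_›
  have hword : prodw (f ∘ Fi22.en) (List.replicate 9 [1, 2, 3, 4, 5, 6, 7]).flatten = 1 :=
    Subtype.ext ((map_prodw_hom cover6.subtype f _).trans second_value)
  have h63 := congrArg q hword
  rw [map_prodw_hom, map_one] at h63
  have h1 : q (f .a) = 1 := by
    simp only [hall] at h63
    rw [show ((fun _ : Fi22.Gen => q (f .a)) ∘ Fi22.en) = fun _ => q (f .a) from rfl] at h63
    simp only [prodw, List.map_const', List.prod_replicate] at h63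
    rw [show (List.replicate 9 [1, 2, 3, 4, 5, 6, 7]).flatten.length = 2 * 31 + 1 by decide,
      pow_succ, pow_mul, pow_two, hsq, one_pow, one_mul] at h63
    exact h63
  rw [eq_top_iff, ← Abelianization.ker_of]
  rintro ⟨g, hg⟩ -
  show q ⟨g, hg⟩ = 1
  induction hg using Subgroup.closure_induction with
  | mem g hg => obtain ⟨x, rfl⟩ := hg; exact (hall x).trans h1
  | one => exact q.map_one
  | mul a b ha hb iha ihb =>
    exact (q.map_mul ⟨a, ha⟩ ⟨b, hb⟩).trans (by rw [iha, ihb, mul_one])
  | inv a ha iha => exact (q.map_inv ⟨a, ha⟩).trans (by rw [iha, inv_one])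

theorem isStemExtension_proj6 : Cfsg.IsStemExtension proj6 := by
  refine ⟨?_, ?_, ?_⟩
  · rw [← MonoidHom.range_eq_top, eq_top_iff, ← PresentedGroup.closure_range_of,
      Subgroup.closure_le]
    rintro _ ⟨x, rfl⟩
    exact ⟨⟨lift6 x, Subgroup.subset_closure ⟨x, rfl⟩⟩, rfl⟩
  · intro z hz
    rw [ker_proj6] at hz
    obtain ⟨k, hk⟩ := Subgroup.mem_zpowers_iff.1 (Subgroup.mem_subgroupOf.1 hz)
    rw [Subgroup.mem_center_iff]
    intro g
    refine Subtype.ext ?_
    show g.1 * z.1 = z.1 * g.1
    rw [← hk]
    exact ((show Commute g.1 central6 from central6_comm _ g.2).zpow_right k).eq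
  · rw [cover6_perfect]; exact le_top

/-- The kernel of the cover is cyclic of order six. -/
noncomputable def kerEquiv6 : proj6.ker ≃* Multiplicative (ZMod 6) :=
  let e : proj6.ker ≃* Subgroup.zpowers central6 :=
    (MulEquiv.subgroupCongr ker_proj6).trans
      (Subgroup.subgroupOfEquivOfLe (Subgroup.zpowers_le.2 central6_mem))
  e.trans (mulEquivOfCyclicCardEq (by
    rw [Nat.card_zpowers, orderOf_central6, Nat.card_congr Multiplicative.toAdd, Nat.card_zmod]))

end CfsgLib.FiTwentyTwoCover
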